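import Cfsg.Agent.H854.JM.List
import Cfsg.Agent.H859.CentC
import Cfsg.Agent.S5563
import Cfsg.Agent.S5564

/-!
# The centralizers of the elements of `Spor.J4` that are not 2-elements have order at most `2661120` (helper854)
-/

set_option autoImplicit false

open Cfsg Subgroup

namespace Cfsg.Agent.H854.Ore

open Cfsg.Agent.H854.JM Cfsg.Agent.H854.JM.NonLocal
open Cfsg.Agent.OrdDiv Cfsg.Agent.H866 Cfsg.Agent.H866.J4Ord

/-- the group `Spor.J4` -/
local notation "𝒢" => Cfsg.Spor.J4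

theorem cent_zpowers {G : Type*} [Group G] (x : G) :
    centralizer ((zpowers x : Subgroup G) : Set G) = centralizer {x} := by
  rw [zpowers_eq_closure, centralizer_closure]

theorem card_cent_of_conj {G : Type*} [Group G] {x y : G} (h : IsConj x y) :
    Nat.card (centralizer ({x} : Set G)) = Nat.card (centralizer ({y} : Set G)) := by
  obtain ⟨c, rfl⟩ := isConj_iff.1 h
  rw [← cent_zpowers x, ← cent_zpowers (c * x * c⁻¹),
    show zpowers (c * x * c⁻¹) = (zpowers x).map (MulAut.conj c).toMonoidHom from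
      (MonoidHom.map_zpowers (MulAut.conj c).toMonoidHom x).symm, J4OddEnd.map_conj_cent,
    Subgroup.card_map_of_injective (MulAut.conj c).injective]

theorem cent_three {x : 𝒢} (hx : orderOf x = 3) : Nat.card (centralizer ({x} : Set 𝒢)) = 2661120 := by
  have := simple_J
  have hfin : Finite 𝒢 := H858.FixJ4.facts.1
  have f3 : Fact (Nat.Prime 3) := ⟨by norm_num⟩
  obtain ⟨z, P, hP⟩ := janko
  have hP3 : Nat.card P = 3 := hP.2.2.2.2.2.1
  obtain ⟨y, hy⟩ := exists_prime_orderOf_dvd_card' (G := P) 3 (by rw [hP3])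
  have hyP : zpowers (y : 𝒢) = P := by
    refine Subgroup.eq_of_le_of_card_ge (zpowers_le.2 y.2) ?_
    rw [hP3, Nat.card_zpowers, Subgroup.orderOf_coe, hy]
  obtain ⟨-, -, h6, hM, hN⟩ := S5563.result noncomm_J z P hP
  have hCP : centralizer ({z} : Set 𝒢) ⊓ centralizer (P : Set 𝒢) = centralizer (P : Set 𝒢) :=
    inf_eq_right.2 ((Subgroup.centralizer_le_normalizer _).trans hN)
  have hc : Nat.card (centralizer (P : Set 𝒢)) = 443520 * 6 := by
    rw [← hCP, Subgroup.card_eq_card_quotient_mul_card_subgroup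
      (center ↥(centralizer ({z} : Set 𝒢) ⊓ centralizer (P : Set 𝒢))), h6,
      Nat.card_congr hM.some.toEquiv, Cfsg.Agent.SporadicA.MathieuRecog.card_M22]
  rw [card_cent_of_conj (S5564.result noncomm_J janko x (y : 𝒢) hx (by rw [Subgroup.orderOf_coe, hy])),
    ← cent_zpowers, hyP, hc]

/-- a prime power dividing `|C(x)|` gives a `q`-subgroup centralizing `x` -/
theorem pow_le {x : 𝒢} {q n b : ℕ} (hq : q.Prime)
    (hb : ∀ S : Subgroup 𝒢, IsPGroup q S → (∀ s ∈ S, s * x = x * s) → Nat.card S ≤ b) (h : b < q ^ n) :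
    ¬ q ^ n ∣ Nat.card (centralizer ({x} : Set 𝒢)) := by
  intro hd
  have : Fact q.Prime := ⟨hq⟩
  have hfin : Finite 𝒢 := H858.FixJ4.facts.1
  obtain ⟨S, hS⟩ := Sylow.exists_subgroup_card_pow_prime q hd
  have h1 := hb (S.map (centralizer ({x} : Set 𝒢)).subtype) ((IsPGroup.of_card hS).map _) (by
    rintro _ ⟨s, -, rfl⟩
    exact (mem_centralizer_singleton_iff.1 s.2))
  rw [Subgroup.card_map_of_injective (Subtype.coe_injective), hS] at h1
  omega

/-- the centralizers of the subgroups of order `5, 7, 23, 29, 31, 37, 43` -/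
structure LC : Prop where
  c5 : ∀ Q : Subgroup 𝒢, Nat.card Q = 5 → Nat.card (centralizer (Q : Set 𝒢)) = 6720
  c7 : ∀ Q : Subgroup 𝒢, Nat.card Q = 7 → Nat.card (centralizer (Q : Set 𝒢)) = 840
  cp : ∀ p ∈ [23, 29, 31, 37, 43], ∀ Q : Subgroup 𝒢, Nat.card Q = p → Nat.card (centralizer (Q : Set 𝒢)) = p

theorem lc : LC := by
  have := simple_J
  have hfin : Finite 𝒢 := H858.FixJ4.facts.1
  have hc : Nat.card 𝒢 = nJ := card_J
  obtain ⟨z, hz⟩ := janko
  have ex : ∀ p : ℕ, p.Prime → p ∣ 5 * 7 → ¬ p ^ 2 ∣ nJ → ∃ Y : Subgroup 𝒢, Nat.card Y = p ∧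
      Y ≤ centralizer ({z} : Set 𝒢) ∧ ∀ Q : Subgroup 𝒢, Nat.card Q = p →
        Nat.card (centralizer (Q : Set 𝒢)) = Nat.card (centralizer (Y : Set 𝒢)) := by
    intro p hp hd h2
    have : Fact p.Prime := ⟨hp⟩
    have hC : p ∣ Nat.card (centralizer ({z} : Set 𝒢)) := by
      rw [(H821.J4MaxB.facts hz).card_cent]
      exact hd.trans (by norm_num)
    obtain ⟨y, hy⟩ := exists_prime_orderOf_dvd_card' (G := centralizer ({z} : Set 𝒢)) p hC
    have hY : Nat.card (Subgroup.zpowers (y : 𝒢)) = p := by rw [Nat.card_zpowers, Subgroup.orderOf_coe, hy]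
    refine ⟨_, hY, Subgroup.zpowers_le.2 y.2, fun Q hQ => ?_⟩
    obtain ⟨g, rfl⟩ := conj_of_prime hc h2 hY hQ
    rw [J4OddEnd.map_conj_cent, Subgroup.card_map_of_injective (MulAut.conj g).injective]
  refine { c5 := ?_, c7 := ?_, cp := ?_ }
  · obtain ⟨Y, hY, hYC, h⟩ := ex 5 (by norm_num) (by norm_num) (by norm_num [nJ])
    obtain ⟨-, ⟨J, hdir, E, hEn, hE2, hE8, hJE, hno⟩, -, -⟩ := S5572.result noncomm_J z hz _ hY hYC
    have hJc : Nat.card J = 8 * 168 := by
      rw [Subgroup.card_eq_card_quotient_mul_card_subgroup E, hE8, Nat.card_congr hJE.some.toEquiv,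
        Cfsg.Agent.S3035.card_sl, mul_comm]
    intro Q hQ
    rw [h Q hQ, card_direct hdir, hY, hJc]
  · obtain ⟨Y, hY, hYC, h⟩ := ex 7 (by norm_num) (by norm_num) (by norm_num [nJ])
    obtain ⟨-, ⟨J, hdir, hJ5⟩, -, -⟩ := S5573.result noncomm_J z hz _ hY hYC
    intro Q hQ
    rw [h Q hQ, card_direct hdir, hY, Nat.card_congr hJ5.some.toEquiv, Nat.card_perm, Nat.card_fin]
    rfl
  · intro p hp Q hQ
    simp only [List.mem_cons, List.not_mem_nil, or_false] at hp
    rcases hp with rfl | rfl | rfl | rfl | rfl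
    · exact (H859.BigNum.data23 hQ).1
    · exact (H859.BigNum.data29' hQ).1
    · exact (H859.BigNum.data31 hQ).1
    · exact (H859.BigNum.data37 hQ).1
    · exact (H859.BigNum.data43 hQ).1

theorem cent_eleven {x : 𝒢} (hx : orderOf x = 11) :
    Nat.card (centralizer ({x} : Set 𝒢)) ≤ 31944 := by
  have F := lc
  have hfin : Finite 𝒢 := H858.FixJ4.facts.1
  have h2 : ¬ 2 ^ 4 ∣ Nat.card (centralizer ({x} : Set 𝒢)) :=
    pow_le Nat.prime_two (fun S hS hc => H859.CentC.card_two hx hS hc) (by norm_num)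
  have h3 : ¬ 3 ^ 2 ∣ Nat.card (centralizer ({x} : Set 𝒢)) :=
    pow_le Nat.prime_three (fun S hS hc => H859.CentC.card_three' hx hS hc) (by norm_num)
  have hr : ∀ r ∈ [5, 7, 23, 29, 31, 37, 43], ¬ r ∣ Nat.card (centralizer ({x} : Set 𝒢)) := by
    intro r hr hd
    have hrp : r.Prime := by
      simp only [List.mem_cons, List.not_mem_nil, or_false] at hr
      rcases hr with rfl | rfl | rfl | rfl | rfl | rfl | rfl <;> norm_num
    have : Fact r.Prime := ⟨hrp⟩
    obtain ⟨y, hy⟩ := exists_prime_orderOf_dvd_card' (G := centralizer ({x} : Set 𝒢)) r hd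
    have hQ : Nat.card (zpowers (y : 𝒢)) = r := by rw [Nat.card_zpowers, Subgroup.orderOf_coe, hy]
    have hxy : zpowers x ≤ centralizer ((zpowers (y : 𝒢) : Subgroup 𝒢) : Set 𝒢) := by
      rw [zpowers_le, cent_zpowers, mem_centralizer_singleton_iff]
      exact (mem_centralizer_singleton_iff.1 y.2).symm
    have hd11 := Subgroup.card_dvd_of_le hxy
    rw [Nat.card_zpowers, hx] at hd11
    simp only [List.mem_cons, List.not_mem_nil, or_false] at hr
    rcases hr with rfl | rfl | rfl | rfl | rfl | rfl | rfl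
    · rw [F.c5 _ hQ] at hd11; norm_num at hd11
    · rw [F.c7 _ hQ] at hd11; norm_num at hd11
    · rw [F.cp 23 (by simp) _ hQ] at hd11; norm_num at hd11
    · rw [F.cp 29 (by simp) _ hQ] at hd11; norm_num at hd11
    · rw [F.cp 31 (by simp) _ hQ] at hd11; norm_num at hd11
    · rw [F.cp 37 (by simp) _ hQ] at hd11; norm_num at hd11
    · rw [F.cp 43 (by simp) _ hQ] at hd11; norm_num at hd11
  have hd : Nat.card (centralizer ({x} : Set 𝒢)) ∣ nJ := by
    rw [← card_J]; exact Subgroup.card_subgroup_dvd_card _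
  -- remove the primes one after the other
  have hn : nJ = 2 ^ 18 * 3 ^ 2 * (2 ^ 3 * 3 * 11 ^ 3) * 5 * 7 * 23 * 29 * 31 * 37 * 43 := by norm_num [nJ]
  rw [hn] at hd
  have e43 := H859.BigNum.remove (by norm_num) hd (hr 43 (by simp))
  have e37 := H859.BigNum.remove (by norm_num) e43 (hr 37 (by simp))
  have e31 := H859.BigNum.remove (by norm_num) e37 (hr 31 (by simp))
  have e29 := H859.BigNum.remove (by norm_num) e31 (hr 29 (by simp))
  have e23 := H859.BigNum.remove (by norm_num) e29 (hr 23 (by simp))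
  have e7 := H859.BigNum.remove (by norm_num) e23 (hr 7 (by simp))
  have e5 := H859.BigNum.remove (by norm_num) e7 (hr 5 (by simp))
  have key : ∀ n : ℕ, n ∣ 2 ^ 18 * 3 ^ 2 * (2 ^ 3 * 3 * 11 ^ 3) → ¬ 2 ^ 4 ∣ n → ¬ 3 ^ 2 ∣ n → n ≤ 31944 := by
    intro n hn h2 h3
    obtain ⟨a, b', h, ha, hb'⟩ : ∃ a b, n = a * b ∧ a ∣ 2 ^ 21 ∧ b ∣ 3 ^ 3 * 11 ^ 3 := by
      have : n ∣ 2 ^ 21 * (3 ^ 3 * 11 ^ 3) := by
        refine hn.trans (by norm_num)
      obtain ⟨a, b, ha, hb, h⟩ := exists_dvd_and_dvd_of_dvd_mul this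
      exact ⟨a, b, h, ha, hb⟩
    obtain ⟨c, e, h', hc, he⟩ : ∃ a b, b' = a * b ∧ a ∣ 3 ^ 3 ∧ b ∣ 11 ^ 3 := by
      obtain ⟨a, b, ha, hb, h⟩ := exists_dvd_and_dvd_of_dvd_mul hb'
      exact ⟨a, b, h, ha, hb⟩
    obtain ⟨i, hi, rfl⟩ := (Nat.dvd_prime_pow Nat.prime_two).1 ha
    obtain ⟨j, hj, rfl⟩ := (Nat.dvd_prime_pow Nat.prime_three).1 hc
    have hi3 : i ≤ 3 := by
      by_contra h4
      exact h2 (h ▸ Dvd.dvd.mul_right (pow_dvd_pow 2 (by omega)) _)
    have hj1 : j ≤ 1 := by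
      by_contra h4
      refine h3 (h ▸ Dvd.dvd.mul_left ?_ _)
      rw [h']
      exact Dvd.dvd.mul_right (pow_dvd_pow 3 (by omega)) _
    have he' : e ≤ 11 ^ 3 := Nat.le_of_dvd (by norm_num) he
    have h2i : 2 ^ i ≤ 2 ^ 3 := Nat.pow_le_pow_right (by norm_num) hi3
    have h3j : 3 ^ j ≤ 3 ^ 1 := Nat.pow_le_pow_right (by norm_num) hj1
    calc n = 2 ^ i * (3 ^ j * e) := by rw [h, h']
      _ ≤ 2 ^ 3 * (3 ^ 1 * 11 ^ 3) := Nat.mul_le_mul h2i (Nat.mul_le_mul h3j he')
      _ = 31944 := by norm_num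
  exact key _ e5 h2 h3

/-- **`J4`: the centralizer of an element whose order is divisible by an odd prime has order at most `2661120`** -/
theorem cent_le {g : 𝒢} {p : ℕ} (hp : p.Prime) (h2 : p ≠ 2) (h : p ∣ orderOf g) :
    Nat.card (centralizer ({g} : Set 𝒢)) ≤ 2661120 := by
  have F := lc
  have hfin : Finite 𝒢 := H858.FixJ4.facts.1
  have hpos : 0 < orderOf g := orderOf_pos g
  obtain ⟨k, hk⟩ := id h
  have hk0 : k ≠ 0 := by rintro rfl; omega
  have hx : orderOf (g ^ k) = p := by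
    rw [orderOf_pow' g hk0, hk, Nat.gcd_eq_right (Dvd.intro_left p rfl), Nat.mul_div_cancel _ (by omega)]
  have hle : centralizer ({g} : Set 𝒢) ≤ centralizer ({g ^ k} : Set 𝒢) := by
    intro c hc
    rw [mem_centralizer_singleton_iff] at hc ⊢
    exact ((show Commute c g from hc).pow_right k)
  refine (Subgroup.card_le_of_le hle).trans ?_
  have hpn : p ∣ nJ := by
    rw [← card_J, ← hx]
    exact orderOf_dvd_natCard _
  have hn : nJ = 2 ^ 21 * 3 ^ 3 * 5 * 7 * 11 ^ 3 * 23 * 29 * 31 * 37 * 43 := by norm_num [nJ]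
  have hcases : p ∈ [3, 5, 7, 11, 23, 29, 31, 37, 43] := by
    rw [hn] at hpn
    simp only [hp.dvd_mul] at hpn
    have h1 : ∀ q n : ℕ, q.Prime → p ∣ q ^ n → p = q := fun q n hq hd => (Nat.prime_dvd_prime_iff_eq hp hq).1 (hp.dvd_of_dvd_pow hd)
    have h0 : ∀ q : ℕ, q.Prime → p ∣ q → p = q := fun q hq hd => (Nat.prime_dvd_prime_iff_eq hp hq).1 hd
    simp only [List.mem_cons, List.not_mem_nil, or_false]
    rcases hpn with ((((((((h | h) | h) | h) | h) | h) | h) | h) | h) | h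
    · exact absurd (h1 2 _ (by norm_num) h) h2
    · have := h1 3 _ (by norm_num) h; omega
    · have := h0 5 (by norm_num) h; omega
    · have := h0 7 (by norm_num) h; omega
    · have := h1 11 _ (by norm_num) h; omega
    · have := h0 23 (by norm_num) h; omega
    · have := h0 29 (by norm_num) h; omega
    · have := h0 31 (by norm_num) h; omega
    · have := h0 37 (by norm_num) h; omega
    · have := h0 43 (by norm_num) h; omega
  have hQ : Nat.card (zpowers (g ^ k)) = p := by rw [Nat.card_zpowers, hx]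
  simp only [List.mem_cons, List.not_mem_nil, or_false] at hcases
  rcases hcases with rfl | rfl | rfl | rfl | rfl | rfl | rfl | rfl | rfl
  · exact (cent_three hx).le
  · rw [← cent_zpowers, F.c5 _ hQ]; norm_num
  · rw [← cent_zpowers, F.c7 _ hQ]; norm_num
  · exact (cent_eleven hx).trans (by norm_num)
  · rw [← cent_zpowers, F.cp 23 (by simp) _ hQ]; norm_num
  · rw [← cent_zpowers, F.cp 29 (by simp) _ hQ]; norm_num
  · rw [← cent_zpowers, F.cp 31 (by simp) _ hQ]; norm_num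
  · rw [← cent_zpowers, F.cp 37 (by simp) _ hQ]; norm_num
  · rw [← cent_zpowers, F.cp 43 (by simp) _ hQ]; norm_num

end Cfsg.Agent.H854.Ore
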