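import Cfsg.Agent.H511.Ore.Reach

/-!
# S4171, T1 for products of four involutions (helper854)

* `invert_of_card` : `x` of prime order `p`, `C(x) = ⟨x⟩` and `|N(⟨x⟩)|` even: an involution inverts `x`;
* `i4_of_data` : from the numerical data of `H511.Ore.isC_of_data`, for an `x` inverted by an involution, every element with
  `|C(g)| ≤ K` is a product of four elements with square one.
-/

set_option autoImplicit false

open Cfsg Subgroup
open scoped ComplexConjugate

namespace Cfsg.Agent.H854.Ore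

open Cfsg.Agent.H653.Sieve Cfsg.Agent.H651.Two Cfsg.Agent.Characters.Core
open Cfsg.Agent.H777.Ore Cfsg.Agent.H511.Ore

universe u

variable {G : Type u} [Group G]

/-- `x` is inverted by an element with square one -/
def SR (x : G) : Prop := ∃ t : G, t * t = 1 ∧ t * x * t⁻¹ = x⁻¹

theorem SR.two {x : G} (h : SR x) (a : G) : ∃ u v : G, u * u = 1 ∧ v * v = 1 ∧ a * x * a⁻¹ = u * v := by
  obtain ⟨t, ht, hx⟩ := h
  have h1 : t * x * t = x⁻¹ := by
    rwa [show t⁻¹ = t from inv_eq_of_mul_eq_one_left ht] at hx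
  refine ⟨a * t * a⁻¹, a * (t * x) * a⁻¹, ?_, ?_, ?_⟩
  · calc a * t * a⁻¹ * (a * t * a⁻¹) = a * (t * t) * a⁻¹ := by group
      _ = 1 := by rw [ht]; group
  · calc a * (t * x) * a⁻¹ * (a * (t * x) * a⁻¹) = a * (t * x * t * x) * a⁻¹ := by group
      _ = 1 := by rw [h1]; group
  · calc a * x * a⁻¹ = a * ((t * t) * x) * a⁻¹ := by rw [ht, one_mul]
      _ = _ := by group

/-- a self-centralizing element of prime order whose normalizer has even order is inverted by an involution -/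
theorem invert_of_card [Finite G] {p : ℕ} [Fact p.Prime] (hp2 : p ≠ 2) {x : G} (hx : orderOf x = p)
    (hC : Nat.card (centralizer ({x} : Set G)) = p)
    (hN : 2 ∣ Nat.card (normalizer ((zpowers x : Subgroup G) : Set G))) : SR x := by
  have hp : p.Prime := Fact.out
  have f2 : Fact (Nat.Prime 2) := ⟨Nat.prime_two⟩
  obtain ⟨t, ht⟩ := exists_prime_orderOf_dvd_card' (G := normalizer ((zpowers x : Subgroup G) : Set G)) 2 hN
  have ht2 : (t : G) * t = 1 := by
    have := pow_orderOf_eq_one (t : G)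
    rwa [Subgroup.orderOf_coe, ht, pow_two] at this
  have ht1 : (t : G) ≠ 1 := by
    intro h
    have : orderOf (t : G) = 1 := by rw [h, orderOf_one]
    rw [Subgroup.orderOf_coe, ht] at this
    omega
  have htx : (t : G) * x * (t : G)⁻¹ ∈ zpowers x :=
    (mem_normalizer_iff.1 t.2 x).1 (mem_zpowers x)
  obtain ⟨k, hk⟩ := mem_zpowers_iff.1 htx
  -- `k ^ 2 = 1` modulo `p`
  have h2 : x ^ (k * k) = x := by
    have e1 : (t : G) * (t * x * (t : G)⁻¹) * (t : G)⁻¹ = x := by
      calc (t : G) * (t * x * (t : G)⁻¹) * (t : G)⁻¹ = (t * t) * x * ((t : G) * t)⁻¹ := by group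
        _ = x := by rw [ht2]; simp
    have e2 : (t : G) * (t * x * (t : G)⁻¹) * (t : G)⁻¹ = x ^ (k * k) := by
      rw [← hk, zpow_mul, ← conj_zpow, ← hk]
    rw [← e2, e1]
  have h3 : (p : ℤ) ∣ (k - 1) * (k + 1) := by
    rw [← hx, orderOf_dvd_iff_zpow_eq_one, show (k - 1) * (k + 1) = k * k - 1 by ring, zpow_sub, h2, zpow_one,
      mul_inv_cancel]
  rcases (Nat.prime_iff_prime_int.1 hp).dvd_or_dvd h3 with h | h
  · exfalso
    rw [← hx, orderOf_dvd_iff_zpow_eq_one, zpow_sub, zpow_one, mul_inv_eq_one] at h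
    have h4 : (t : G) ∈ centralizer ({x} : Set G) := by
      rw [mem_centralizer_singleton_iff]
      rw [h] at hk
      exact (eq_mul_inv_iff_mul_eq.1 hk).symm
    have h5 : orderOf (t : G) ∣ p := by
      rw [← hC]
      exact Subgroup.orderOf_dvd_natCard _ h4
    rw [Subgroup.orderOf_coe, ht] at h5
    exact hp2 ((Nat.prime_dvd_prime_iff_eq Nat.prime_two hp).1 h5).symm
  · rw [← hx, orderOf_dvd_iff_zpow_eq_one, zpow_add, zpow_one, mul_eq_one_iff_eq_inv] at h
    exact ⟨t, ht2, by rw [← hk, h]⟩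

/-- **T1 for four involutions, the row theorem.** -/
theorem i4_of_data [Finite G] [IsSimpleGroup G] (hG : ¬ IsMulCommutative G) (N : ℕ) (hN : Nat.card G = N)
    (L : List (ℕ × ℕ)) (hL : (L.all fun pa => Nat.Prime pa.1) = true) (hLN : facProd L = N) (cd : List CD)
    (hcd : (cd.all (CD.ok N)) = true) (hx : ∀ d ∈ cd, d.Has G) {m D : ℕ} {ex : List ℕ} (hm : MinDeg G m)
    (hex : NoDeg G ex) (c : CD) (hc : c ∈ cd) (hk : c.k = 1) (h : allDiv (D * D) (tst c.r m ex cd) L 1 = true)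
    (hreal : ∀ x : G, orderOf x = c.r → SR x)
    (K : ℕ) (hK : K * s4 c.r c.e c.t < 8 * (D * D)) {g : G} (hg : Nat.card (centralizer ({g} : Set G)) ≤ K) : I4 g := by
  have : Finite (IrrCharacter G) := finite_irr
  have := Fintype.ofFinite (IrrCharacter G)
  obtain ⟨x, hx1, hr, hcx, hS, hv⟩ := fourth_of_has hG hN (hx c hc) hk (List.all_eq_true.1 hcd c hc)
  have hD := degOff_of_check hG N hN L hL hLN cd hcd hx hm hex h
  have hD0 : 0 < D := by
    rcases Nat.eq_zero_or_pos D with h0 | h0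
    · rw [h0] at hK; omega
    · exact h0
  obtain ⟨a, b, hab⟩ := exists_conj_of_sum (x := x) (y := x) (g := g) (d := D) (S := (s4 c.r c.e c.t : ℝ) / 8)
    (le_trans (le_of_eq (Finset.sum_congr rfl fun χ _ => by ring))
      (show ∑ χ : IrrCharacter G, ‖(χ : G → ℂ) x‖ ^ 4 ≤ 1 + (s4 c.r c.e c.t : ℝ) / 8 by linarith))
    (fun χ h1 h2 _ => hD χ h1 fun h3 => h2 (hv χ h3)) (by
      have h1 : (Nat.card (centralizer ({g} : Set G)) : ℝ) ≤ K := by exact_mod_cast hg
      have h2 : ((K * s4 c.r c.e c.t : ℕ) : ℝ) < ((8 * (D * D) : ℕ) : ℝ) := by exact_mod_cast hK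
      push_cast at h2
      have h3 : (Nat.card (centralizer ({g} : Set G)) : ℝ) * (s4 c.r c.e c.t : ℝ) ≤ K * (s4 c.r c.e c.t : ℝ) :=
        mul_le_mul_of_nonneg_right h1 (Nat.cast_nonneg _)
      nlinarith) hD0
  obtain ⟨u, v, hu, hv', e1⟩ := (hreal x hx1).two a
  obtain ⟨u', v', hu', hv'', e2⟩ := (hreal x hx1).two b
  exact ⟨u, v, u', v', hu, hv', hu', hv'', by rw [← hab, e1, e2]; group⟩

end Cfsg.Agent.H854.Ore
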