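import Cfsg.Agent.H854.Ore.Fi24PwFin
import Cfsg.Agent.H49.Four.Fi24Frame
import Cfsg.Agent.H856.F23.Row
import Cfsg.Agent.H48.OreFi.WOne
import Cfsg.Agent.H597.OreFi.NineB

/-!
# `Fi24'`, row of S4171 modulo `Wd 4` (helper854)
-/

set_option autoImplicit false
set_option maxRecDepth 100000

open Cfsg Subgroup

namespace Cfsg.Agent.H854.Ore.Fi24Pw

open Cfsg.Agent Cfsg.Agent.Characters
open Cfsg.Agent.H777.Ore Cfsg.Agent.H854.Ore
open Cfsg.Agent.R08.FiTwentyFour (L facts mem_commutator_iff)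
open Cfsg.Agent.H48.OreFi.Nine (Wd)
open Cfsg.Spor (Fi24)

theorem I4.map {G H : Type*} [Group G] [Group H] (f : G →* H) {g : G} (h : I4 g) : I4 (f g) := by
  obtain ⟨a, b, c, d, ha, hb, hc, hd, hg⟩ := h
  exact ⟨f a, f b, f c, f d, by rw [← map_mul, ha, map_one], by rw [← map_mul, hb, map_one],
    by rw [← map_mul, hc, map_one], by rw [← map_mul, hd, map_one], by rw [← map_mul, ← map_mul, ← map_mul, ← hg]⟩

/-- elements commuting with a transposition -/
theorem i4_of_fix (h23 : ∀ x : Spor.Fi23, I4 x) {g : Spor.Fi24'} {d : Fi24} (hd : d ∈ L) (hg : Commute (g : Fi24) d) :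
    I4 g := by
  obtain ⟨c, rfl⟩ := isConj_iff.1 (show IsConj (Cfsg.Agent.Fischer.Fi24Class.gen .l) d from hd)
  have h1 : (c⁻¹ * (g : Fi24) * c) * Cfsg.Agent.Fischer.Fi24Class.gen .l =
      Cfsg.Agent.Fischer.Fi24Class.gen .l * (c⁻¹ * (g : Fi24) * c) := by
    calc (c⁻¹ * (g : Fi24) * c) * Cfsg.Agent.Fischer.Fi24Class.gen .l
        = c⁻¹ * ((g : Fi24) * (c * Cfsg.Agent.Fischer.Fi24Class.gen .l * c⁻¹)) * c := by group
      _ = c⁻¹ * ((c * Cfsg.Agent.Fischer.Fi24Class.gen .l * c⁻¹) * (g : Fi24)) * c := by rw [hg.eq]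
      _ = Cfsg.Agent.Fischer.Fi24Class.gen .l * (c⁻¹ * (g : Fi24) * c) := by group
  have h2 : Cfsg.Agent.Fischer.Fi24Final.sgn (c⁻¹ * (g : Fi24) * c) = 1 := by
    rw [map_mul, map_mul, map_inv, mem_commutator_iff.1 g.2, mul_one, inv_mul_cancel]
  obtain ⟨k, hk⟩ := (facts.mem_range_iff _).2 ⟨h1, h2⟩
  have hn : ∀ x : Spor.Fi23, c * facts.phi x * c⁻¹ ∈ commutator Fi24 := by
    intro x
    rw [mem_commutator_iff, map_mul, map_mul, map_inv, facts.sgn_phi, mul_one, mul_inv_cancel]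
  let f : Spor.Fi23 →* Spor.Fi24' :=
    { toFun := fun x => ⟨c * facts.phi x * c⁻¹, hn x⟩
      map_one' := Subtype.ext (by
        show c * facts.phi 1 * c⁻¹ = 1
        rw [map_one]; group)
      map_mul' := fun x y => Subtype.ext (by
        show c * facts.phi (x * y) * c⁻¹ = c * facts.phi x * c⁻¹ * (c * facts.phi y * c⁻¹)
        rw [map_mul]; group) }
  have hf : f k = g := Subtype.ext (by
    show c * facts.phi k * c⁻¹ = (g : Fi24)
    rw [hk]; group)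
  rw [← hf]
  exact I4.map f (h23 k)

/-- `|C(g)| ≤ 78382080` -/
theorem i4_cent {g : Spor.Fi24'} (hc : Nat.card (centralizer ({g} : Set Spor.Fi24')) ≤ 78382080) : I4 g :=
  H49.Four.FrF.i4_of_cent Cfsg.Agent.H26.Ore.Fi24Deg.hDN
    (fun χ h1 h2 => le_trans (by norm_num) (Cfsg.Agent.H26.Ore.Fi24Deg.hDX χ h1 h2)) hc

theorem four_model (h4 : Wd 4) (g : Spor.Fi24') : I4 g := by
  refine H48.OreFi.cases' (P := I4) (fun g hg => i4_cent hg) (fun g n hg => H854.Ore.Fi24.two_four hg)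
    (fun g hg => H49.Four.FrF.i4_three hg) ?_ (H48.OreFi.bound_zs H48.OreFi.bdA) g
  intro g b hb hg
  by_cases hD : ∃ d ∈ L, Commute (g : Fi24) d
  · obtain ⟨d, hd, hc⟩ := hD
    exact i4_of_fix (fun x => H856.F23.four_Fi23 ⟨MulEquiv.refl _⟩ x) hd hc
  · push Not at hD
    exact i4_cent (nine_bound H48.OreFi.WOne.wd_one H597.OreFi.NineB.wd_two h4 g b hb hg hD)

/-- **row `Fi24'` of S4171** -/
theorem four_of (h4 : Wd 4) {S : Type*} [Group S] (h : Spor.IsoFi24' S) : Inv4 S := by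
  obtain ⟨e⟩ := h
  intro g
  have := I4.map e.symm.toMonoidHom (four_model h4 (e g))
  simpa using this

end Cfsg.Agent.H854.Ore.Fi24Pw
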