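import Cfsg.Agent.H854.Ore.J4Pow
import Cfsg.Agent.H78.Pw.Base
import Cfsg.Agent.H134.Sq.Base

/-!
# Rows `J4` of S2465 and S2453 in the shape of their interfaces (helper854)

`pw` : `J4` satisfies `Pw` of helper78; `sq` : `J4` satisfies `AllP 2` of helper134.
-/

set_option autoImplicit false

open Cfsg

namespace Cfsg.Agent.H854.Ore.J4Pw

open Cfsg.Agent.H78.Pw Cfsg.Agent.H854.Ore

theorem pr_of {G : Type*} [Group G] {x y g : G} {q n : ℕ} (h : g = x * y) (hx : x ^ q = 1) (hy : y ^ q = 1)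
    (hq : Nat.Coprime q n) : Pr n g :=
  ⟨x, y, h, Nat.Coprime.of_dvd_left (orderOf_dvd_of_pow_eq_one hx) hq,
    Nat.Coprime.of_dvd_left (orderOf_dvd_of_pow_eq_one hy) hq⟩

theorem pwJ : Pw Cfsg.Spor.J4 := by
  constructor
  · intro g
    obtain ⟨x, y, h, ⟨hx, hy⟩ | ⟨hx, hy⟩⟩ := prod_J g
    · exact pr_of h hx hy (by norm_num)
    · exact pr_of h hx hy (by norm_num)
  · intro p hp h5 g
    by_cases h : p = 23 ∨ p = 43
    · by_cases hd : p ∣ orderOf g
      · obtain ⟨x, y, hx, hy, hg⟩ := prod_37 h hd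
        exact pr_of hg hx hy (by rcases h with rfl | rfl <;> norm_num)
      · exact Pr.of_coprime ((Nat.Prime.coprime_iff_not_dvd hp).2 hd).symm
    · push Not at h
      obtain ⟨x, y, hg, ⟨hx, hy⟩ | ⟨hx, hy⟩⟩ := prod_J g
      · exact pr_of hg hx hy ((Nat.coprime_primes (by norm_num) hp).2 (Ne.symm h.2))
      · exact pr_of hg hx hy ((Nat.coprime_primes (by norm_num) hp).2 (Ne.symm h.1))

/-- **row `J4` of S2465** -/
theorem pw {S : Type*} [Group S] (h : Spor.IsoJ4 S) : Pw S := by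
  obtain ⟨e⟩ := h
  exact pwJ.congr e.symm

/-- **row `J4` of S2453** -/
theorem sq {S : Type*} [Group S] (h : Spor.IsoJ4 S) : Cfsg.Agent.H134.Sq.AllP 2 S := sq_J4 h

end Cfsg.Agent.H854.Ore.J4Pw
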