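import Cfsg.Agent.H854.Ore.Fi24PwThree
import Cfsg.Agent.H854.Ore.Fi24FourFin
import Cfsg.Agent.H48.OreFi.WFour
import Cfsg.Agent.H854.Ore.J4Pw

/-!
# `Fi24'`, rows of S2465, S2453 and S4171, final form (helper854)
-/

set_option autoImplicit false

open Cfsg

namespace Cfsg.Agent.H854.Ore.Fi24Pw

open Cfsg.Agent.H78.Pw Cfsg.Agent.H777.Ore Cfsg.Agent.H854.Ore

/-- **row `Fi24'` of S2465** -/
theorem pw_fi24 {S : Type*} [Group S] (h : Spor.IsoFi24' S) : Pw S := pw_of_four H48.WFour.wd_four h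

/-- **row `Fi24'` of S2453** -/
theorem sq_fi24 {S : Type*} [Group S] (h : Spor.IsoFi24' S) : Cfsg.Agent.H134.Sq.AllP 2 S := by
  intro g
  exact (pw_fi24 h).pow (Or.inl Nat.prime_two.isPrimePow) g

/-- **row `Fi24'` of S4171** -/
theorem four_fi24 {S : Type*} [Group S] (h : Spor.IsoFi24' S) : Inv4 S := four_of H48.WFour.wd_four h

end Cfsg.Agent.H854.Ore.Fi24Pw
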