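import Cfsg.Agent.H854.Ore.J4Four

/-!
# `J4`: products of two elements of order `43` or of two elements of order `23`; rows of S2453 and S2465 (helper854)

* `prod_J4` : every element is `x y` with `x ^ 43 = y ^ 43 = 1` or `x ^ 23 = y ^ 23 = 1`;
* `sq_J4` : every element is `a ^ 2 b ^ 2`; `pw_J4` : every element is `a ^ m b ^ m`, `m` a prime power or a power of `6`.
-/

set_option autoImplicit false

open Cfsg
open Cfsg.Agent.H854.JM

namespace Cfsg.Agent.H854.Ore

open Cfsg.Agent.H860.Act Cfsg.Agent.H860.Orb Cfsg.Agent.H860.TwoElem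
open Cfsg.Agent.J4.ClassesAbs (Hyp exists_mul_of_mem_sup)
open Cfsg.Agent.J4.Beta Cfsg.Agent.J4.M24Hom
open Cfsg.Agent.SporadicStructure.M24El Cfsg.Agent.SporadicA.GolayPerm
open Cfsg.Agent.H860.Two24 Cfsg.Agent.H860.Two24Data
open Cfsg.Agent.J4.Rep112 (rho)
open Cfsg.Agent.H777.Ore

/-- elements of order `23` -/
def tQ1 : List ℕ := [983478296959358443554250846857397270, 435609769663561377304596957950597127, 526475193483151018049148542612743732, 928700450512634593027366072917433075, 435609769663561377304596957950597127, 683581010365472984858728795902035238, 482419119488086908251866214261851408]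

/-- elements of order `23` -/
def tQ2 : List ℕ := [956302485175575353788796878166559809, 776838379337473446636627489629275397, 956709441910203461498593497208492130, 442244753731677887827186527001555247, 237669737550661069534520897246152972, 902341838122745061286414040863911439, 42369145575781168702407732474071312]

/-- the choice of `x` -/
def tQX : List (List ℕ) := [[1946, 1735, 1939, 1947, 1635, 371, 1671, 1543, 1651, 883, 1907], [1197, 1902, 1758, 1683, 1208, 1870, 1294, 766, 1672, 1358, 1754], [1855, 1593, 678, 2010, 1854, 1470, 1570, 1882, 602, 1838, 858], [580, 833, 1604, 856, 1630, 1134, 1762, 1089, 173, 703, 976], [1197, 1902, 1758, 1683, 1208, 1870, 1294, 766, 1672, 1358, 1754], [1186, 817, 1207, 1306, 1354, 1338, 810, 1715, 823, 1203, 874], [1931, 1657, 1945, 1829, 1641, 1581, 2009, 345, 1837, 1497, 473]]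

/-- powers of a packed permutation -/
def ppow (P : ℕ) (n : ℕ) : ℕ := Nat.rec (motive := fun _ => ℕ) idP (fun _ ih => pcomp ih P) n

/-- check of the elements -/
def chkQ (a b m : ℕ) : Bool :=
  ok a && ok b && Nat.beq (ppow a 23) idP && Nat.beq (ppow b 23) idP && Nat.beq (pcomp a b) m

/-- check of the vectors -/
def chkQV (A X : List ℕ) : Bool :=
  (List.range 2048).all fun v => Nat.beq v (Nat.xor (lin X v) (lin A (lin X v)))

theorem chkQ_all : ∀ j < 7, chkQ (tQ1.getD j idP) (tQ2.getD j idP) (rp.getD j idP) = true := by decide +kernel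

theorem chkQV_all : ∀ j < 7, chkQV (AP (tQ1.getD j idP)) (tQX.getD j []) = true := by decide +kernel

theorem el_ppow {P : ℕ} (hP : ok P = true) (n : ℕ) : ok (ppow P n) = true ∧ el (ppow P n) = el P ^ n := by
  induction n with
  | zero => exact ⟨ok_idP, by rw [pow_zero]; exact el_idP⟩
  | succ n ih =>
    obtain ⟨h1, h2⟩ := ih
    refine ⟨ok_pcomp h1 hP, ?_⟩
    show el (pcomp (ppow P n) P) = _
    rw [el_pcomp h1 hP, h2, pow_succ]

section

variable {G : Type*} [Group G] {R : Subgroup G} {l : List G} {phi : M24 →* G}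

/-- the coset `2^11 m` consists of products of two elements of order `23` -/
theorem coset_prod (H : Hyp R l phi) {j : ℕ} (hj : j < 7) {v : ℕ} (hv : v < 2048) :
    ∃ a ∈ R, ∃ b ∈ R, a ^ 23 = 1 ∧ b ^ 23 = 1 ∧ J4.Beta.beta l v * phi (el (rp.getD j idP)) = a * b := by
  have hE := chkQ_all j hj
  unfold chkQ at hE
  simp only [Bool.and_eq_true] at hE
  obtain ⟨⟨⟨⟨hA, hB⟩, a2⟩, b2⟩, hM⟩ := hE
  have hV := List.all_eq_true.1 (chkQV_all j hj) v (List.mem_range.2 hv)
  have hV := Nat.eq_of_beq_eq_true hV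
  generalize tQ1.getD j idP = A at *
  generalize tQ2.getD j idP = B at *
  generalize rp.getD j idP = M at *
  have a2 := congrArg el (Nat.eq_of_beq_eq_true a2)
  have b2 := congrArg el (Nat.eq_of_beq_eq_true b2)
  have hM := congrArg el (Nat.eq_of_beq_eq_true hM)
  rw [(el_ppow hA 23).2, el_idP] at a2
  rw [(el_ppow hB 23).2, el_idP] at b2
  rw [el_pcomp hA hB] at hM
  have e1 := act_el H hA (lin (tQX.getD j []) v)
  generalize lin (tQX.getD j []) v = x at *
  have bx := beta_xor l H.sq H.comm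
  have binv : ∀ w, (J4.Beta.beta l w)⁻¹ = J4.Beta.beta l w := fun w => by
    rw [inv_eq_iff_mul_eq_one, ← bx, Nat.xor_self, beta_zero]
  have e : J4.Beta.beta l v = J4.Beta.beta l x * (phi (el A) * J4.Beta.beta l x * (phi (el A))⁻¹) := by
    rw [e1, ← bx]
    exact congrArg _ hV
  have hmx : J4.Beta.beta l x ∈ R := beta_mem R l H.mem x
  refine ⟨J4.Beta.beta l x * phi (el A) * (J4.Beta.beta l x)⁻¹,
    R.mul_mem (R.mul_mem hmx (H.le ⟨_, rfl⟩)) (R.inv_mem hmx), phi (el B), H.le ⟨_, rfl⟩, ?_, ?_, ?_⟩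
  · rw [conj_pow, ← map_pow, a2, map_one, mul_one, mul_inv_cancel]
  · rw [← map_pow, b2, map_one]
  · rw [e, ← hM, map_mul, binv x]; group

theorem two_prod_abs [Finite G] (H : Hyp R l phi)
    (hodd : ¬ 2 ∣ ((Subgroup.closure {q | q ∈ l} ⊔ phi.range).subgroupOf R).index)
    (u : G) (huR : u ∈ R) {n : ℕ} (hu : u ^ 2 ^ n = 1) : ∃ a ∈ R, ∃ b ∈ R, a ^ 23 = 1 ∧ b ^ 23 = 1 ∧ u = a * b := by
  obtain ⟨j, hj, v, hv, x, hx, h3⟩ := exists_coset H hodd u huR hu
  obtain ⟨a, ha, b, hb, a2, b2, h⟩ := coset_prod H hj hv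
  have key : ∀ y ∈ R, x⁻¹ * y * x⁻¹⁻¹ ∈ R := fun y hy => R.mul_mem (R.mul_mem (R.inv_mem hx) hy) (R.inv_mem (R.inv_mem hx))
  refine ⟨_, key a ha, _, key b hb, ?_, ?_, ?_⟩
  · rw [conj_pow, a2]; group
  · rw [conj_pow, b2]; group
  · have h4 : u = x⁻¹ * (a * b) * x := by rw [← h, ← h3]; group
    rw [h4]; group

end

/-- every 2-element of `Spor.J4` is a product of two elements of order `23` -/
theorem two_prod {g : Cfsg.Spor.J4} {n : ℕ} (hg : g ^ 2 ^ n = 1) :
    ∃ a b : Cfsg.Spor.J4, a ^ 23 = 1 ∧ b ^ 23 = 1 ∧ g = a * b := by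
  obtain ⟨_, ⟨a, rfl⟩, _, ⟨b, rfl⟩, a2, b2, h⟩ :=
    two_prod_abs J4.Classes.hyp odd_index (rho g) ⟨g, rfl⟩ (n := n) (by rw [← map_pow, hg, map_one])
  have inj := H858.VK.rho_injective
  refine ⟨a, b, inj ?_, inj ?_, inj ?_⟩
  · rw [map_pow, a2, map_one]
  · rw [map_pow, b2, map_one]
  · rw [h, map_mul]

section T1

open Cfsg.Agent.H653.Sieve Cfsg.Agent.H651.Two Cfsg.Agent.Characters.Core Cfsg.Agent.H511.Ore

universe u

/-- **T1 for products of two elements of the prime order `c.r`** -/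
theorem prd_of_data {G : Type u} [Group G] [Finite G] [IsSimpleGroup G] (hG : ¬ IsMulCommutative G) (N : ℕ)
    (hN : Nat.card G = N) (L : List (ℕ × ℕ)) (hL : (L.all fun pa => Nat.Prime pa.1) = true) (hLN : facProd L = N)
    (cd : List CD) (hcd : (cd.all (CD.ok N)) = true) (hx : ∀ d ∈ cd, d.Has G) {m D : ℕ} {ex : List ℕ} (hm : MinDeg G m)
    (hex : NoDeg G ex) (c : CD) (hc : c ∈ cd) (hk : c.k = 1) (h : allDiv (D * D) (tst c.r m ex cd) L 1 = true)
    (K : ℕ) (hK : K * s4 c.r c.e c.t < 8 * (D * D)) {g : G} (hg : Nat.card (Subgroup.centralizer ({g} : Set G)) ≤ K) :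
    ∃ x y : G, x ^ c.r = 1 ∧ y ^ c.r = 1 ∧ g = x * y := by
  have : Finite (IrrCharacter G) := finite_irr
  have := Fintype.ofFinite (IrrCharacter G)
  obtain ⟨x, hx1, hr, hcx, hS, hv⟩ := fourth_of_has hG hN (hx c hc) hk (List.all_eq_true.1 hcd c hc)
  have hD := degOff_of_check hG N hN L hL hLN cd hcd hx hm hex h
  have hD0 : 0 < D := by
    rcases Nat.eq_zero_or_pos D with h0 | h0
    · rw [h0] at hK; omega
    · exact h0
  obtain ⟨a, b, hab⟩ := exists_conj_of_sum (x := x) (y := x) (g := g) (d := D) (S := (s4 c.r c.e c.t : ℝ) / 8)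
    (le_trans (le_of_eq (Finset.sum_congr rfl fun χ _ => by ring))
      (show ∑ χ : IrrCharacter G, ‖(χ : G → ℂ) x‖ ^ 4 ≤ 1 + (s4 c.r c.e c.t : ℝ) / 8 by linarith))
    (fun χ h1 h2 _ => hD χ h1 fun h3 => h2 (hv χ h3)) (by
      have h1 : (Nat.card (Subgroup.centralizer ({g} : Set G)) : ℝ) ≤ K := by exact_mod_cast hg
      have h2 : ((K * s4 c.r c.e c.t : ℕ) : ℝ) < ((8 * (D * D) : ℕ) : ℝ) := by exact_mod_cast hK
      push_cast at h2
      have h3 : (Nat.card (Subgroup.centralizer ({g} : Set G)) : ℝ) * (s4 c.r c.e c.t : ℝ) ≤ K * (s4 c.r c.e c.t : ℝ) :=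
        mul_le_mul_of_nonneg_right h1 (Nat.cast_nonneg _)
      nlinarith) hD0
  exact ⟨_, _, by rw [conj_pow, ← hx1, pow_orderOf_eq_one]; group, by rw [conj_pow, ← hx1, pow_orderOf_eq_one]; group,
    hab.symm⟩

/-- a column of `J4` -/
theorem prdJ (c : CD) (hc : c ∈ cdJ) (hk : c.k = 1) (D : ℕ) (h : allDiv (D * D) (tst c.r 2 [] cdJ) LJ 1 = true) (K : ℕ)
    (hK : K * s4 c.r c.e c.t < 8 * (D * D)) {g : Cfsg.Spor.J4}
    (hg : Nat.card (Subgroup.centralizer ({g} : Set Cfsg.Spor.J4)) ≤ K) :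
    ∃ x y : Cfsg.Spor.J4, x ^ c.r = 1 ∧ y ^ c.r = 1 ∧ g = x * y := by
  have := simple_J
  have hfin : Finite Cfsg.Spor.J4 := H858.FixJ4.facts.1
  exact prd_of_data noncomm_J 86775571046077562880 card'' LJ hL hLN cdJ hcd hasJ (m := 2) (D := D) (ex := [])
    (fun χ h => H511.Ore.two_le_charDegree noncomm_J χ h) (fun χ => List.not_mem_nil) c hc hk h K hK hg

theorem prod_one (g : Cfsg.Spor.J4) : (∃ x y : Cfsg.Spor.J4, x ^ 43 = 1 ∧ y ^ 43 = 1 ∧ g = x * y) ∨
    ∃ n, orderOf g = 2 ^ n := by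
  by_cases hg : ∃ p : ℕ, p.Prime ∧ p ≠ 2 ∧ p ∣ orderOf g
  · obtain ⟨p, hp, h2, hd⟩ := hg
    exact Or.inl (prdJ ⟨43, 1, 14, 3, [(0, 0), (1, 3), (14, -1), (29, 1), (42, -3)], 3, true⟩ (by simp [cdJ]) rfl
      100000 hdiv 2661120 (by norm_num [H511.Ore.s4]) (cent_le hp h2 hd))
  · push Not at hg
    exact Or.inr (two_pow_of g hg)

theorem hdiv37 : allDiv (1000 * 1000) (tst 37 2 [] cdJ) LJ 1 = true := by decide +kernel

/-- an element of order divisible by `p`, `p = 23` or `43`, is a product of two elements of order `37` -/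
theorem prod_37 {p : ℕ} (hp : p = 23 ∨ p = 43) {g : Cfsg.Spor.J4} (hd : p ∣ orderOf g) :
    ∃ x y : Cfsg.Spor.J4, x ^ 37 = 1 ∧ y ^ 37 = 1 ∧ g = x * y := by
  have hfin : Finite Cfsg.Spor.J4 := H858.FixJ4.facts.1
  have hc : Nat.card (Subgroup.centralizer ({g} : Set Cfsg.Spor.J4)) ≤ 43 := by
    have hpos : 0 < orderOf g := orderOf_pos g
    obtain ⟨k, hk⟩ := id hd
    have hk0 : k ≠ 0 := by rintro rfl; omega
    have hx : orderOf (g ^ k) = p := by
      rw [orderOf_pow' g hk0, hk, Nat.gcd_eq_right (Dvd.intro_left p rfl), Nat.mul_div_cancel _ (by omega)]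
    have hle : Subgroup.centralizer ({g} : Set Cfsg.Spor.J4) ≤ Subgroup.centralizer ({g ^ k} : Set Cfsg.Spor.J4) := by
      intro c hc
      rw [Subgroup.mem_centralizer_singleton_iff] at hc ⊢
      exact ((show Commute c g from hc).pow_right k)
    refine (Subgroup.card_le_of_le hle).trans ?_
    have hQ : Nat.card (Subgroup.zpowers (g ^ k)) = p := by rw [Nat.card_zpowers, hx]
    rcases hp with rfl | rfl
    · rw [← cent_zpowers, lc.cp 23 (by simp) _ hQ]; norm_num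
    · rw [← cent_zpowers, lc.cp 43 (by simp) _ hQ]
  exact prdJ ⟨37, 1, 12, 3, [(0, 0), (1, 3), (12, -1), (25, 1), (36, -3)], 3, true⟩ (by simp [cdJ]) rfl
    1000 hdiv37 43 (by norm_num [H511.Ore.s4]) hc

end T1

theorem prod_J (g : Cfsg.Spor.J4) : ∃ x y : Cfsg.Spor.J4, g = x * y ∧
    ((x ^ 43 = 1 ∧ y ^ 43 = 1) ∨ (x ^ 23 = 1 ∧ y ^ 23 = 1)) := by
  rcases prod_one g with ⟨x, y, hx, hy, h⟩ | ⟨n, hn⟩
  · exact ⟨x, y, h, Or.inl ⟨hx, hy⟩⟩
  · obtain ⟨x, y, hx, hy, h⟩ := two_prod (n := n) (by rw [← hn]; exact pow_orderOf_eq_one g)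
    exact ⟨x, y, h, Or.inr ⟨hx, hy⟩⟩

/-- **`J4`: every element is a product of two elements of order (dividing) `43` or `23`** -/
theorem prod_J4 {S : Type*} [Group S] (h : Spor.IsoJ4 S) (g : S) : ∃ x y : S, g = x * y ∧
    ((x ^ 43 = 1 ∧ y ^ 43 = 1) ∨ (x ^ 23 = 1 ∧ y ^ 23 = 1)) := by
  obtain ⟨e⟩ := h
  obtain ⟨x, y, hg, hxy⟩ := prod_J (e g)
  refine ⟨e.symm x, e.symm y, by rw [← map_mul, ← hg, e.symm_apply_apply], ?_⟩
  simp only [← map_pow, ← map_one e.symm, e.symm.injective.eq_iff]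
  exact hxy

/-- an element of order prime to `m` is an `m`-th power -/
theorem exists_root {G : Type*} [Group G] {x : G} {q m : ℕ} (hx : x ^ q = 1) (h : Nat.Coprime m q) : ∃ a : G, x = a ^ m := by
  have h1 : (Nat.gcdA m q * m : ℤ) + Nat.gcdB m q * q = 1 := by
    have := Nat.gcd_eq_gcd_ab m q
    rw [h] at this
    push_cast at this
    linarith
  refine ⟨x ^ (Nat.gcdA m q), ?_⟩
  calc x = x ^ ((Nat.gcdA m q * m : ℤ) + Nat.gcdB m q * q) := by rw [h1, zpow_one]
    _ = (x ^ (Nat.gcdA m q)) ^ m * (x ^ q) ^ (Nat.gcdB m q) := by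
        rw [zpow_add, zpow_mul, mul_comm (Nat.gcdB m q), zpow_mul, zpow_natCast, zpow_natCast]
    _ = _ := by rw [hx, one_zpow, mul_one]

theorem pw_J (m : ℕ) (hm : IsPrimePow m ∨ ∃ k : ℕ, m = 6 ^ k) (g : Cfsg.Spor.J4) : ∃ a b, g = a ^ m * b ^ m := by
  have hfin : Finite Cfsg.Spor.J4 := H858.FixJ4.facts.1
  have fin : ∀ {q : ℕ} {x y : Cfsg.Spor.J4}, g = x * y → x ^ q = 1 → y ^ q = 1 → Nat.Coprime m q →
      ∃ a b, g = a ^ m * b ^ m := by
    intro q x y h hx hy hq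
    obtain ⟨a, ha⟩ := exists_root hx hq
    obtain ⟨b, hb⟩ := exists_root hy hq
    exact ⟨a, b, by rw [h, ha, hb]⟩
  by_cases h23 : Nat.Coprime m (23 * 43)
  · obtain ⟨x, y, h, hxy⟩ := prod_J g
    rcases hxy with ⟨hx, hy⟩ | ⟨hx, hy⟩
    · exact fin h hx hy (Nat.Coprime.coprime_mul_left_right h23)
    · exact fin h hx hy (Nat.Coprime.coprime_mul_right_right h23)
  · have hp : ∃ p, (p = 23 ∨ p = 43) ∧ ∃ k, m = p ^ k := by
      rcases hm with hm | ⟨k, rfl⟩
      · obtain ⟨p, k, hp, hk, rfl⟩ := hm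
        rw [← Nat.prime_iff] at hp
        refine ⟨p, ?_, k, rfl⟩
        by_contra hne
        push Not at hne
        apply h23
        refine Nat.Coprime.pow_left _ (Nat.Coprime.mul_right ?_ ?_)
        · exact (Nat.coprime_primes hp (by norm_num)).2 hne.1
        · exact (Nat.coprime_primes hp (by norm_num)).2 hne.2
      · exfalso
        exact h23 (Nat.Coprime.pow_left _ (by norm_num))
    obtain ⟨p, hp, k, rfl⟩ := hp
    have hpp : p.Prime := by rcases hp with rfl | rfl <;> norm_num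
    by_cases hd : p ∣ orderOf g
    · obtain ⟨x, y, hx, hy, h⟩ := prod_37 hp hd
      exact fin h hx hy (Nat.Coprime.pow_left _ (by rcases hp with rfl | rfl <;> norm_num))
    · obtain ⟨a, ha⟩ := exists_root (m := p ^ k) (pow_orderOf_eq_one g)
        (Nat.Coprime.pow_left _ ((Nat.Prime.coprime_iff_not_dvd hpp).2 hd))
      exact ⟨a, 1, by rw [one_pow, mul_one]; exact ha⟩

/-- **row `J4` of S2465** -/
theorem pw_J4 {S : Type*} [Group S] (h : Spor.IsoJ4 S) (m : ℕ) (hm : IsPrimePow m ∨ ∃ k : ℕ, m = 6 ^ k) (g : S) :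
    ∃ a b : S, g = a ^ m * b ^ m := by
  obtain ⟨e⟩ := h
  obtain ⟨a, b, hab⟩ := pw_J m hm (e g)
  exact ⟨e.symm a, e.symm b, by rw [← map_pow, ← map_pow, ← map_mul, ← hab, e.symm_apply_apply]⟩

/-- **row `J4` of S2453** -/
theorem sq_J4 {S : Type*} [Group S] (h : Spor.IsoJ4 S) (g : S) : ∃ a b : S, g = a ^ 2 * b ^ 2 :=
  pw_J4 h 2 (Or.inl Nat.prime_two.isPrimePow) g

end Cfsg.Agent.H854.Ore
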