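import Cfsg.Agent.H854.Ore.Ext
import Cfsg.Agent.H827.Coco
import Cfsg.Agent.H843.Pat

/-!
# `Fi24'`: every 2-element is a commutator and a product of four elements of square one (S2443, S4171) (helper854)
-/

set_option autoImplicit false
set_option maxRecDepth 100000

open Cfsg Subgroup

namespace Cfsg.Agent.H854.Ore.Fi24

open Cfsg.Agent.H777.Ore Cfsg.Agent.H827 Cfsg.Agent.H843.Pat
open Cfsg.Agent.Fischer.Fi24Spider (word_append word_cons word_nil)
open Cfsg.Agent.H827.CocoD (word_mem rho_of_chkPt)
open Cfsg.Agent.Fischer.Fi24RepDef Cfsg.Agent.Fischer.Fi24Rep Cfsg.Agent.Lib.PermNet Cfsg.Agent.Lib.PermNetPt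
open Cfsg.Spor.Fi24 (Gen)

theorem finite' : Finite Spor.Fi24' := CocoD.finite

/-- the subgroup `2^11 . M24` -/
theorem ext : MExt Coco.AA (normalizer (Coco.AA : Set Spor.Fi24')) Coco.ind where
  card := Coco.cardA
  sq := fun _ hx => CocoD.pre.sq_A hx
  norm := le_rfl
  surj := Coco.ind_surj
  ker := Coco.ind_ker
  cen := fun _ _ h => Coco.cen h
  odd := Coco.odd_index

/-- **every 2-element of `Fi24'` is a commutator** -/
theorem two_comm {g : Spor.Fi24'} {n : ℕ} (hg : g ^ 2 ^ n = 1) : IsC g := by
  have := finite'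
  exact ext.two_comm hg

/-- an element of order 11 -/
def xw : List Gen := [.a, .c, .e, .g, .l, .b, .d, .f, .j, .k]

/-- an involution inverting it -/
def tw : List Gen := [.a, .c, .e, .g, .l, .i]

theorem t_sq : chkEq (tw ++ tw) [] = true := by decide +kernel
theorem txt : chkEq (tw ++ xw ++ tw ++ xw) [] = true := by decide +kernel
theorem x11 : chkEq (xw ++ xw ++ xw ++ xw ++ xw ++ xw ++ xw ++ xw ++ xw ++ xw ++ xw) [] = true := by decide +kernel

theorem x_move : chkPt (nw xw false) 193 193 = false := by decide +kernel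

/-- the element of order 11 in `Fi24'` -/
noncomputable def x0 : Spor.Fi24' := ⟨word xw, word_mem (by decide)⟩

/-- the involution of `Fi24'` -/
noncomputable def t0 : Spor.Fi24' := ⟨word tw, word_mem (by decide)⟩

theorem x0_ne : x0 ≠ 1 := by
  intro h
  have h1 : word xw = word [] := by rw [word_nil]; exact congrArg Subtype.val h
  have h2 : winv (nw xw false) 193 = 193 := by
    rw [winv_eq (wok xw false), Equiv.Perm.inv_eq_iff_eq, ← rho_word, h1, word_nil, map_one]
    rfl
  have h4 := x_move
  unfold chkPt at h4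
  rw [h2] at h4
  exact absurd h4 (by decide)

theorem x0_order : orderOf x0 = 11 := by
  have : Fact (Nat.Prime 11) := ⟨by norm_num⟩
  refine orderOf_eq_prime (Subtype.ext ?_) x0_ne
  have h := word_eq_of x11
  simp only [word_append, word_nil] at h
  show (word xw) ^ 11 = 1
  rw [← h]
  simp only [pow_succ, pow_zero, one_mul]

theorem t0_sq : t0 * t0 = 1 := by
  have h := word_eq_of t_sq
  rw [word_append, word_nil] at h
  exact Subtype.ext h

theorem t0_x0 : t0 * x0 * t0 = x0⁻¹ := by
  have h := word_eq_of txt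
  simp only [word_append, word_nil] at h
  rw [eq_inv_iff_mul_eq_one]
  exact Subtype.ext h

theorem sr_eleven (y : Spor.Fi24') (hy : y ^ 11 = 1) : I2 y := by
  have := finite'
  have : Fact (Nat.Prime 11) := ⟨by norm_num⟩
  exact I2.of_sylow (p := 11) (by rw [CocoD.card_eq]; norm_num) x0_order t0_sq t0_x0 hy

/-- **every 2-element of `Fi24'` is a product of four elements of square one** -/
theorem two_four {g : Spor.Fi24'} {n : ℕ} (hg : g ^ 2 ^ n = 1) : I4 g := by
  have := finite'
  exact ext.two_four sr_eleven hg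

end Cfsg.Agent.H854.Ore.Fi24
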