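import Cfsg.Agent.H831.Ore.M24Two
import Cfsg.Agent.H777.Ore.Base

/-!
# Groups with a subgroup `2^11 . M24` of odd index: the 2-elements are commutators and products of four involutions
(S2443, S4171) (helper854)

* `MExt A N π` : `A` elementary abelian of order `2^11`, normal in `N` and self-centralizing there, `π : N → M24` onto with
  kernel `A`, `N` of odd index (the extension may be non-split, and the module arbitrary);
* `MExt.two_comm` : every 2-element is a commutator; `MExt.two_four` : if the elements of order `11` are products of two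
  elements of square one, every 2-element is a product of four elements of square one;
* `I2.of_sylow` : for `p` dividing the order exactly once it is enough that one element of order `p` is such a product
  (in the form: is inverted by an element of square one).
-/

set_option autoImplicit false
set_option linter.unusedSectionVars false

open Cfsg Subgroup

namespace Cfsg.Agent.H854.Ore

open Cfsg.Agent.SporadicStructure.M24El Cfsg.Agent.SporadicA.GolayPerm Cfsg.Agent.Lib.F2Mat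
open Cfsg.Agent.H860.Two24 Cfsg.Agent.H860.Two24Data Cfsg.Agent.H777.Ore

/-! ### Products of two elements of order 11 in `M24` -/

/-- elements of order 11 -/
def tE1 : List ℕ := [0, 65248537048057393924360590216759477, 19044657278288076538245348389869936, 834986398999047318731830992912565666, 940234842350784212230588740868199825, 624722999985745992341897627929655524, 940234842350784212230588740868199825]

/-- elements of order 11 -/
def tE2 : List ℕ := [0, 396341327155095033859972793321508578, 419994955345300387322775194258741552, 889655545407810462815409254353227278, 733960056892798742212007621275255012, 853700584338806206636066658151109859, 356974791860781457902180401635068079]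

/-- exponents of a word of order 23 -/
def tEi : List ℕ := [0, 1, 2, 2, 1, 2, 2]

/-- exponents of a word of order 23 -/
def tEk : List ℕ := [0, 6, 3, 3, 2, 1, 1]

/-- powers of a packed permutation -/
def ppw (P : ℕ) (n : ℕ) : ℕ := Nat.rec (motive := fun _ => ℕ) idP (fun _ ih => pcomp ih P) n

/-- the check -/
def chk11 (a b m i k : ℕ) : Bool :=
  ok a && ok b && Nat.beq (ppw a 11) idP && Nat.beq (ppw b 11) idP && Nat.beq (pcomp a b) m &&
    Nat.beq (ppw (pcomp (ppw a i) (ppw b k)) 23) idP && !(Nat.beq (pcomp (ppw a i) (ppw b k)) idP)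

theorem chk11_all : ∀ j < 7, 0 < j → chk11 (tE1.getD j idP) (tE2.getD j idP) (rp.getD j idP) (tEi.getD j 0)
    (tEk.getD j 0) = true := by decide +kernel

theorem el_ppw {P : ℕ} (hP : ok P = true) (n : ℕ) : ok (ppw P n) = true ∧ el (ppw P n) = el P ^ n := by
  induction n with
  | zero => exact ⟨ok_idP, by rw [pow_zero]; exact el_idP⟩
  | succ n ih =>
    obtain ⟨h1, h2⟩ := ih
    refine ⟨ok_pcomp h1 hP, ?_⟩
    show el (pcomp (ppw P n) P) = _
    rw [el_pcomp h1 hP, h2, pow_succ]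

/-- a packed permutation which is not the packed identity is not the identity -/
theorem el_ne {P : ℕ} (hP : ok P = true) (h : ∃ i < 24, papp P i ≠ i) : el P ≠ 1 := by
  obtain ⟨i, hi, h⟩ := h
  intro h1
  have h2 := idx_el_smul hP (SporadicA.GolayBase.pt i)
  rw [h1, one_smul, SporadicA.GolayBase.idx_pt hi] at h2
  exact h h2.symm

theorem moved_all : ∀ j < 7, 0 < j → ∃ i < 24, papp (pcomp (ppw (tE1.getD j idP) (tEi.getD j 0))
    (ppw (tE2.getD j idP) (tEk.getD j 0))) i ≠ i := by decide +kernel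

/-- every non-trivial 2-element of `M24` is a product of two elements of order 11, generating an element of order 23 -/
theorem two_M24_eleven {u : M24} {n : ℕ} (hu : u ^ 2 ^ n = 1) : u = 1 ∨ ∃ a b : M24, a ^ 11 = 1 ∧ b ^ 11 = 1 ∧
    u = a * b ∧ ∃ i k : ℕ, (a ^ i * b ^ k) ^ 23 = 1 ∧ a ^ i * b ^ k ≠ 1 := by
  obtain ⟨c, j, hc⟩ := two_conj hu
  by_cases hj : j < 7 ∧ 0 < j
  · right
    have h := chk11_all j hj.1 hj.2
    have hm := moved_all j hj.1 hj.2
    unfold chk11 at h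
    simp only [Bool.and_eq_true] at h
    obtain ⟨⟨⟨⟨⟨⟨ha, hb⟩, h1⟩, h2⟩, h3⟩, h4⟩, -⟩ := h
    generalize tE1.getD j idP = A at *
    generalize tE2.getD j idP = B at *
    generalize tEi.getD j 0 = i at *
    generalize tEk.getD j 0 = k at *
    have e1 := congrArg el (Nat.eq_of_beq_eq_true h1)
    have e2 := congrArg el (Nat.eq_of_beq_eq_true h2)
    have e3 := congrArg el (Nat.eq_of_beq_eq_true h3)
    have e4 := congrArg el (Nat.eq_of_beq_eq_true h4)
    have hw : ok (pcomp (ppw A i) (ppw B k)) = true := ok_pcomp (el_ppw ha i).1 (el_ppw hb k).1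
    have hw' : el (pcomp (ppw A i) (ppw B k)) = el A ^ i * el B ^ k := by
      rw [el_pcomp (el_ppw ha i).1 (el_ppw hb k).1, (el_ppw ha i).2, (el_ppw hb k).2]
    rw [(el_ppw ha 11).2, el_idP] at e1
    rw [(el_ppw hb 11).2, el_idP] at e2
    rw [el_pcomp ha hb, ← hc] at e3
    rw [(el_ppw hw 23).2, hw', el_idP] at e4
    have e5 := el_ne hw hm
    rw [hw'] at e5
    refine ⟨c⁻¹ * el A * c⁻¹⁻¹, c⁻¹ * el B * c⁻¹⁻¹, by rw [conj_pow, e1]; group, by rw [conj_pow, e2]; group, ?_, i, k, ?_, ?_⟩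
    · have : u = c⁻¹ * (c * u * c⁻¹) * c := by group
      rw [this, ← e3]; group
    · rw [conj_pow, conj_pow, conj_mul, conj_pow, e4]; group
    · rw [conj_pow, conj_pow, conj_mul]
      intro h
      apply e5
      have : el A ^ i * el B ^ k = c * (c⁻¹ * (el A ^ i * el B ^ k) * c⁻¹⁻¹) * c⁻¹ := by group
      rw [this, h]; group
  · left
    have he : rp.getD j idP = idP := by
      rcases Nat.lt_or_ge j 7 with h7 | h7
      · have h0 : j = 0 := by
          by_contra h0
          exact hj ⟨h7, Nat.pos_of_ne_zero h0⟩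
        rw [h0]; rfl
      · rw [List.getD_eq_default _ _ (by simpa [rp] using h7)]
    rw [he, el_idP] at hc
    have : u = c⁻¹ * (c * u * c⁻¹) * c := by group
    rw [this, hc]; group

/-! ### The extension -/

/-- product of two elements of square one -/
def I2 {G : Type*} [Group G] (g : G) : Prop := ∃ s t : G, s * s = 1 ∧ t * t = 1 ∧ g = s * t

theorem I2.conj {G : Type*} [Group G] {g : G} (h : I2 g) (x : G) : I2 (x * g * x⁻¹) := by
  obtain ⟨s, t, hs, ht, rfl⟩ := h
  refine ⟨x * s * x⁻¹, x * t * x⁻¹, ?_, ?_, by group⟩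
  · calc x * s * x⁻¹ * (x * s * x⁻¹) = x * (s * s) * x⁻¹ := by group
      _ = 1 := by rw [hs]; group
  · calc x * t * x⁻¹ * (x * t * x⁻¹) = x * (t * t) * x⁻¹ := by group
      _ = 1 := by rw [ht]; group

theorem I2.of_inv {G : Type*} [Group G] {x t : G} (ht : t * t = 1) (h : t * x * t = x⁻¹) : I2 x := by
  refine ⟨t, t * x, ht, ?_, ?_⟩
  · calc t * x * (t * x) = (t * x * t) * x := by group
      _ = 1 := by rw [h]; group
  · rw [← mul_assoc, ht, one_mul]

/-- one inverted element of order `p` is enough if `p` divides the order exactly once -/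
theorem I2.of_sylow {G : Type*} [Group G] [Finite G] {p : ℕ} [hp : Fact p.Prime] (h2 : ¬ p ^ 2 ∣ Nat.card G) {x t : G}
    (hx : orderOf x = p) (ht : t * t = 1) (htx : t * x * t = x⁻¹) {y : G} (hy : y ^ p = 1) : I2 y := by
  by_cases hy1 : y = 1
  · exact ⟨1, 1, by simp, by simp, by simp [hy1]⟩
  have hyo : orderOf y = p := orderOf_eq_prime hy hy1
  have hs : ∀ {z : G}, orderOf z = p → ∃ S : Sylow p G, (S : Subgroup G) = zpowers z := by
    intro z hz
    have hc : Nat.card (zpowers z) = p ^ 1 := by rw [Nat.card_zpowers, hz, pow_one]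
    obtain ⟨S, hS⟩ := (IsPGroup.of_card hc).exists_le_sylow
    refine ⟨S, (Subgroup.eq_of_le_of_card_ge hS ?_).symm⟩
    obtain ⟨k, hk⟩ := IsPGroup.iff_card.1 S.2
    have hk1 : k ≤ 1 := by
      by_contra hlt
      exact h2 ((pow_dvd_pow p (by omega)).trans (hk ▸ Subgroup.card_subgroup_dvd_card _))
    rw [hk, hc]
    exact Nat.pow_le_pow_right hp.out.pos hk1
  obtain ⟨S, hS⟩ := hs hx
  obtain ⟨T, hT⟩ := hs hyo
  obtain ⟨g, hg⟩ := MulAction.exists_smul_eq G T S
  have h1 : g * y * g⁻¹ ∈ zpowers x := by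
    rw [← hS, ← hg, Sylow.coe_subgroup_smul, hT]
    exact Subgroup.smul_mem_pointwise_smul _ _ _ (mem_zpowers y)
  obtain ⟨k, hk⟩ := mem_zpowers_iff.1 h1
  have h3 : I2 (g * y * g⁻¹) := by
    rw [← hk]
    refine I2.of_inv ht ?_
    have ht' : t⁻¹ = t := inv_eq_of_mul_eq_one_left ht
    calc t * x ^ k * t = t * x ^ k * t⁻¹ := by rw [ht']
      _ = (t * x * t⁻¹) ^ k := (conj_zpow).symm
      _ = (x ^ k)⁻¹ := by rw [ht', htx, inv_zpow]
  have h4 := h3.conj g⁻¹
  rwa [show g⁻¹ * (g * y * g⁻¹) * g⁻¹⁻¹ = y by group] at h4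

/-- an extension `2^11 . M24` of odd index -/
structure MExt {G : Type*} [Group G] (A N : Subgroup G) (π : N →* M24) : Prop where
  card : Nat.card A = 2 ^ 11
  sq : ∀ x ∈ A, x * x = 1
  norm : N ≤ normalizer (A : Set G)
  surj : Function.Surjective π
  ker : ∀ n : N, π n = 1 ↔ (n : G) ∈ A
  cen : ∀ x ∈ N, (∀ a ∈ A, x * a = a * x) → x ∈ A
  odd : ¬ 2 ∣ N.index

section

variable {G : Type*} [Group G] [Finite G]

/-- an element of prime order acting on a group -/
theorem fix_modEq {p : ℕ} [hp : Fact p.Prime] {x : G} (hx : orderOf x = p) {E : Subgroup G}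
    (h1 : x ∈ normalizer (E : Set G)) :
    Nat.card (E ⊓ centralizer {x} : Subgroup G) ≡ Nat.card E [MOD p] := by
  have hmem : ∀ g ∈ zpowers x, ∀ a ∈ E, g * a * g⁻¹ ∈ E := by
    intro g hg a ha
    have h2 : g ∈ normalizer (E : Set G) := (zpowers_le.2 h1) hg
    exact (mem_normalizer_iff.1 h2 a).1 ha
  let act : MulAction (zpowers x) E :=
    { smul := fun g a => ⟨g * a * (g : G)⁻¹, hmem g g.2 a a.2⟩
      one_smul := fun a => Subtype.ext (by
        show (1 : G) * a * (1 : G)⁻¹ = a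
        group)
      mul_smul := fun g h a => Subtype.ext (by
        show (g * h : G) * a * (g * h : G)⁻¹ = g * (h * a * (h : G)⁻¹) * (g : G)⁻¹
        group) }
  have hpg : IsPGroup p (zpowers x) := IsPGroup.of_card (n := 1) (by rw [Nat.card_zpowers, hx, pow_one])
  have h := hpg.card_modEq_card_fixedPoints E
  have h2 : Nat.card (MulAction.fixedPoints (zpowers x) E) =
      Nat.card (E ⊓ centralizer {x} : Subgroup G) := by
    refine Nat.card_congr ⟨fun a => ⟨a.1, a.1.2, ?_⟩, fun a => ⟨⟨a, a.2.1⟩, ?_⟩, fun a => rfl, fun a => rfl⟩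
    · change (a.1 : G) ∈ centralizer {x}
      rw [mem_centralizer_singleton_iff]
      have h3 : x * (a.1 : G) * x⁻¹ = a.1 := congrArg Subtype.val (a.2 ⟨x, mem_zpowers x⟩)
      exact (mul_inv_eq_iff_eq_mul.1 h3).symm
    · rintro ⟨g, hg⟩
      apply Subtype.ext
      show g * (a : G) * g⁻¹ = a
      obtain ⟨n, rfl⟩ := hg
      have h3 : Commute x (a : G) := (mem_centralizer_singleton_iff.1 a.2.2).symm
      rw [(h3.zpow_left n).eq, mul_inv_cancel_right]
  rw [h2] at h
  exact h.symm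

variable {A N : Subgroup G} {π : N →* M24}

namespace MExt

theorem comm (H : MExt A N π) {x y : G} (hx : x ∈ A) (hy : y ∈ A) : x * y = y * x := by
  have h1 := H.sq _ (A.mul_mem hx hy)
  have hxi : x⁻¹ = x := inv_eq_of_mul_eq_one_left (H.sq x hx)
  have hyi : y⁻¹ = y := inv_eq_of_mul_eq_one_left (H.sq y hy)
  have h2 : x * y = (x * y)⁻¹ := eq_inv_of_mul_eq_one_left h1
  rw [mul_inv_rev, hxi, hyi] at h2
  exact h2

theorem nconj (H : MExt A N π) (n : N) {x : G} (hx : x ∈ A) : (n : G) * x * (n : G)⁻¹ ∈ A :=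
  (mem_normalizer_iff.1 (H.norm n.2) x).1 hx

/-- an element of order 23 has no fixed points on `A` -/
theorem fix (H : MExt A N π) {s : N} (hs : s ^ 23 = 1) (hs1 : π s ≠ 1) {a : G} (ha : a ∈ A)
    (hc : (s : G) * a = a * s) : a = 1 := by
  have f23 : Fact (Nat.Prime 23) := ⟨by norm_num⟩
  have hso : orderOf (s : G) = 23 := by
    refine orderOf_eq_prime (by rw [← Subgroup.coe_pow, hs]; rfl) ?_
    intro h
    exact hs1 ((H.ker s).2 (h ▸ A.one_mem))
  have h1 := fix_modEq hso (H.norm s.2)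
  have hA : IsPGroup 2 A := IsPGroup.of_card H.card
  obtain ⟨k, hk⟩ := IsPGroup.iff_card.1 (hA.to_le (inf_le_left : A ⊓ centralizer {(s : G)} ≤ A))
  have hk11 : k ≤ 11 := by
    have h3 := Subgroup.card_le_of_le (inf_le_left : A ⊓ centralizer {(s : G)} ≤ A)
    rw [hk, H.card] at h3
    exact (Nat.pow_le_pow_iff_right (by norm_num)).1 h3
  rw [hk, H.card] at h1
  have h4 : ∀ k ≤ 11, 2 ^ k ≡ 2 ^ 11 [MOD 23] → k = 0 ∨ k = 11 := by decide
  rcases h4 k hk11 h1 with rfl | rfl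
  · rw [pow_zero] at hk
    have h5 : a ∈ A ⊓ centralizer {(s : G)} := ⟨ha, mem_centralizer_singleton_iff.2 hc.symm⟩
    rw [Subgroup.eq_bot_of_card_eq _ hk, mem_bot] at h5
    exact h5
  · exfalso
    have h5 : A ⊓ centralizer {(s : G)} = A := Subgroup.eq_of_le_of_card_ge inf_le_left (by rw [hk, H.card])
    apply hs1
    rw [H.ker]
    refine H.cen _ s.2 fun b hb => ?_
    rw [← h5] at hb
    exact (mem_centralizer_singleton_iff.1 hb.2).symm

/-- the commutators with an element above an element of order 23 fill `A` -/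
theorem fill (H : MExt A N π) {s : N} (hs : (π s) ^ 23 = 1) (hs1 : π s ≠ 1) {v : G} (hv : v ∈ A) :
    ∃ x ∈ A, x * (s * x⁻¹ * (s : G)⁻¹) = v := by
  have hm : ∀ x ∈ A, x * (s * x⁻¹ * (s : G)⁻¹) ∈ A := fun x hx => A.mul_mem hx (H.nconj s (A.inv_mem hx))
  let f : A → A := fun x => ⟨x * (s * (x : G)⁻¹ * (s : G)⁻¹), hm x x.2⟩
  have h2 : (s ^ 2) ^ 23 = 1 := by
    have h3 : π (s ^ 23) = 1 := by rw [map_pow, hs]
    have h4 := H.sq _ ((H.ker _).1 h3)
    apply Subtype.ext
    calc ((((s ^ 2) ^ 23 : N)) : G) = ((s ^ 23 : N) : G) * ((s ^ 23 : N) : G) := by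
          rw [← Subgroup.coe_mul, ← pow_mul, mul_comm 2 23, pow_mul, pow_two]
      _ = _ := h4
  have h5 : π (s ^ 2) ≠ 1 := by
    intro h
    apply hs1
    rw [map_pow] at h
    calc π s = (π s) ^ 23 * ((π s) ^ 2) ^ (-11 : ℤ) := by
          rw [← zpow_natCast, ← zpow_natCast, ← zpow_mul, ← zpow_add]; norm_num
      _ = 1 := by rw [hs, h, one_zpow, mul_one]
  have hinj : Function.Injective f := by
    intro x y hxy
    have h6 : (x : G) * (s * (x : G)⁻¹ * (s : G)⁻¹) = y * (s * (y : G)⁻¹ * (s : G)⁻¹) := congrArg Subtype.val hxy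
    have h7 : (y : G)⁻¹ * x * s = s * ((y : G)⁻¹ * x) := by
      calc (y : G)⁻¹ * x * s = (y : G)⁻¹ * (x * (s * (x : G)⁻¹ * (s : G)⁻¹)) * s * x := by group
        _ = (y : G)⁻¹ * (y * (s * (y : G)⁻¹ * (s : G)⁻¹)) * s * x := by rw [h6]
        _ = _ := by group
    have h8 : ((s ^ 2 : N) : G) * ((y : G)⁻¹ * x) = ((y : G)⁻¹ * x) * ((s ^ 2 : N) : G) := by
      rw [Subgroup.coe_pow, pow_two]
      calc (s : G) * s * ((y : G)⁻¹ * x) = s * (s * ((y : G)⁻¹ * x)) := by group
        _ = s * ((y : G)⁻¹ * x * s) := by rw [h7]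
        _ = (s * ((y : G)⁻¹ * x)) * s := by group
        _ = _ := by rw [← h7]; group
    have h9 := H.fix h2 h5 (A.mul_mem (A.inv_mem y.2) x.2) h8
    exact Subtype.ext (inv_mul_eq_one.1 h9).symm
  obtain ⟨x, hx⟩ := Finite.surjective_of_injective hinj ⟨v, hv⟩
  exact ⟨x, x.2, congrArg Subtype.val hx⟩

/-- a 2-element is conjugate into `N` -/
theorem into (H : MExt A N π) {g : G} {n : ℕ} (hg : g ^ 2 ^ n = 1) : ∃ (h : N) (c : G), g = c * h * c⁻¹ ∧ (π h) ^ 2 ^ n = 1 := by
  have f2 : Fact (Nat.Prime 2) := ⟨Nat.prime_two⟩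
  have hp : IsPGroup 2 (zpowers g) := by
    rintro ⟨y, hy⟩
    obtain ⟨m, rfl⟩ := mem_zpowers_iff.1 hy
    refine ⟨n, Subtype.ext ?_⟩
    show (g ^ m) ^ 2 ^ n = 1
    rw [← zpow_natCast, ← zpow_mul, mul_comm, zpow_mul, zpow_natCast, hg, one_zpow]
  obtain ⟨a, ha⟩ := hp.nonempty_fixed_point_of_prime_not_dvd_card (G ⧸ N) H.odd
  obtain ⟨c, rfl⟩ := QuotientGroup.mk_surjective a
  have h' : (QuotientGroup.mk (g * c) : G ⧸ N) = QuotientGroup.mk c := ha ⟨g, mem_zpowers g⟩
  rw [QuotientGroup.eq] at h'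
  have h2 := N.inv_mem h'
  have e : (((g * c)⁻¹ * c)⁻¹ : G) = c⁻¹ * g * c := by group
  rw [e] at h2
  refine ⟨⟨_, h2⟩, c, by group, ?_⟩
  rw [← map_pow]
  have : (⟨c⁻¹ * g * c, h2⟩ : N) ^ 2 ^ n = 1 := by
    apply Subtype.ext
    show (c⁻¹ * g * c) ^ 2 ^ n = 1
    have h := conj_pow (i := 2 ^ n) (a := c⁻¹) (b := g)
    rw [inv_inv] at h
    rw [h, hg]; group
  rw [this, map_one]

/-- **every 2-element is a commutator** -/
theorem two_comm (H : MExt A N π) {g : G} {n : ℕ} (hg : g ^ 2 ^ n = 1) : IsC g := by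
  obtain ⟨h, c, rfl, hu⟩ := H.into hg
  obtain ⟨a, b, hab, ha⟩ := H831.Ore.two_M24 (u := (π h)⁻¹) (n := n) (by rw [inv_pow, hu, inv_one])
  -- `π h = [b, a]`, `a` of order 23
  have hab' : π h = b * a * b⁻¹ * a⁻¹ := by
    rw [← inv_inv (π h), hab]; group
  obtain ⟨a', rfl⟩ := H.surj a
  obtain ⟨b', rfl⟩ := H.surj b
  have hs : (π (b' * a' * b'⁻¹)) ^ 23 = 1 := by
    rw [map_mul, map_mul, map_inv, conj_pow, ← ha, pow_orderOf_eq_one]; group
  have hs1 : π (b' * a' * b'⁻¹) ≠ 1 := by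
    intro h1
    have h2 : π a' = 1 := by
      have h3 : π a' = (π b')⁻¹ * π (b' * a' * b'⁻¹) * π b' := by rw [map_mul, map_mul, map_inv]; group
      rw [h3, h1]; group
    rw [h2, orderOf_one] at ha
    omega
  have hv : (h : G) * ((b' * a' * b'⁻¹ * a'⁻¹ : N) : G)⁻¹ ∈ A := by
    rw [← Subgroup.coe_inv, ← Subgroup.coe_mul, ← H.ker, map_mul, map_inv, hab']
    simp only [map_mul, map_inv]
    group
  obtain ⟨x, hx, hxv⟩ := H.fill hs hs1 hv
  have key : (h : G) = (x * b') * a' * (x * b')⁻¹ * (a' : G)⁻¹ := by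
    calc (h : G) = (h : G) * ((b' * a' * b'⁻¹ * a'⁻¹ : N) : G)⁻¹ * ((b' * a' * b'⁻¹ * a'⁻¹ : N) : G) := by group
      _ = x * (((b' * a' * b'⁻¹ : N) : G) * x⁻¹ * ((b' * a' * b'⁻¹ : N) : G)⁻¹) * ((b' * a' * b'⁻¹ * a'⁻¹ : N) : G) := by
        rw [hxv]
      _ = _ := by push_cast; group
  exact IsC.conj ⟨x * b', a', key⟩ c

/-- a lift of order 11 -/
theorem lift (H : MExt A N π) {a : M24} (ha : a ^ 11 = 1) : ∃ a' : N, π a' = a ∧ (a' : G) ^ 11 = 1 := by
  obtain ⟨n, rfl⟩ := H.surj a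
  refine ⟨n ^ 12, ?_, ?_⟩
  · rw [map_pow, pow_succ, ha, one_mul]
  · have h3 : π (n ^ 11) = 1 := by rw [map_pow, ha]
    have h4 := H.sq _ ((H.ker _).1 h3)
    have h5 : (n : G) ^ 22 = 1 := by
      rw [show 22 = 11 + 11 by norm_num, pow_add]
      exact h4
    rw [Subgroup.coe_pow, ← pow_mul, show 12 * 11 = 22 * 6 by norm_num, pow_mul, h5, one_pow]

/-- **every 2-element is a product of four elements of square one** -/
theorem two_four (H : MExt A N π) (h11 : ∀ y : G, y ^ 11 = 1 → I2 y) {g : G} {n : ℕ} (hg : g ^ 2 ^ n = 1) : I4 g := by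
  obtain ⟨h, c, rfl, hu⟩ := H.into hg
  have conj4 : I4 (h : G) → I4 (c * h * c⁻¹) := by
    rintro ⟨p, q, r, s, hp, hq, hr, hs, e⟩
    have sq : ∀ y : G, y * y = 1 → c * y * c⁻¹ * (c * y * c⁻¹) = 1 := fun y hy => by
      calc c * y * c⁻¹ * (c * y * c⁻¹) = c * (y * y) * c⁻¹ := by group
        _ = 1 := by rw [hy]; group
    exact ⟨_, _, _, _, sq p hp, sq q hq, sq r hr, sq s hs, by rw [e]; group⟩
  apply conj4
  rcases two_M24_eleven hu with h1 | ⟨a, b, ha, hb, hab, i, k, hw, hw1⟩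
  · exact ⟨h, 1, 1, 1, H.sq _ ((H.ker h).1 h1), by simp, by simp, by simp, by simp⟩
  obtain ⟨a', rfl, ha'⟩ := H.lift ha
  obtain ⟨b', rfl, hb'⟩ := H.lift hb
  -- the subgroup `B` of the products of commutators
  let F : N → A →* A := fun s =>
    { toFun := fun x => ⟨x * (s * (x : G)⁻¹ * (s : G)⁻¹), A.mul_mem x.2 (H.nconj s (A.inv_mem x.2))⟩
      map_one' := Subtype.ext (by simp)
      map_mul' := fun x y => Subtype.ext (by
        show (x * y : G) * (s * (x * y : G)⁻¹ * (s : G)⁻¹) =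
          x * (s * (x : G)⁻¹ * (s : G)⁻¹) * (y * (s * (y : G)⁻¹ * (s : G)⁻¹))
        have e1 := H.comm (H.nconj s (A.inv_mem x.2)) y.2
        have e2 := H.comm (H.nconj s (A.inv_mem x.2)) (H.nconj s (A.inv_mem y.2))
        calc (x * y : G) * (s * (x * y : G)⁻¹ * (s : G)⁻¹)
            = x * y * ((s * (y : G)⁻¹ * (s : G)⁻¹) * (s * (x : G)⁻¹ * (s : G)⁻¹)) := by group
          _ = x * y * ((s * (x : G)⁻¹ * (s : G)⁻¹) * (s * (y : G)⁻¹ * (s : G)⁻¹)) := by rw [← e2]
          _ = x * (y * (s * (x : G)⁻¹ * (s : G)⁻¹)) * (s * (y : G)⁻¹ * (s : G)⁻¹) := by group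
          _ = x * ((s * (x : G)⁻¹ * (s : G)⁻¹) * y) * (s * (y : G)⁻¹ * (s : G)⁻¹) := by rw [← e1]
          _ = _ := by group) }
  have hF : ∀ (s : N) (x : A), ((F s x : A) : G) = x * (s * (x : G)⁻¹ * (s : G)⁻¹) := fun _ _ => rfl
  -- `B = [A,a'] · a'[A,b']a'⁻¹`
  let C : N → A →* A := fun s =>
    { toFun := fun x => ⟨s * x * (s : G)⁻¹, H.nconj s x.2⟩
      map_one' := Subtype.ext (by simp)
      map_mul' := fun x y => Subtype.ext (by
        show (s : G) * (x * y) * (s : G)⁻¹ = s * x * (s : G)⁻¹ * (s * y * (s : G)⁻¹)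
        group) }
  have hCm : ∀ (s : N) (x : A), ((C s x : A) : G) = s * x * (s : G)⁻¹ := fun _ _ => rfl
  have hAc : ∀ x y : A, x * y = y * x := fun x y => Subtype.ext (H.comm x.2 y.2)
  let B : Subgroup A := (F a').range ⊔ ((C a').comp (F b')).range
  have mulB : ∀ y ∈ B, ∃ p q : A, y = F a' p * C a' (F b' q) := by
    intro y hy
    haveI : ((F a').range).Normal := ⟨fun n hn g => by
      rw [hAc g n, mul_assoc, mul_inv_cancel, mul_one]; exact hn⟩
    obtain ⟨_, ⟨p, rfl⟩, _, ⟨q, rfl⟩, rfl⟩ := Subgroup.mem_sup_of_normal_left.1 hy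
    exact ⟨p, q, rfl⟩
  -- elements acting trivially on `A / B`
  let T : N → Prop := fun s => ∀ x : A, F s x ∈ B
  have Tinv : ∀ {s : N}, T s → ∀ b ∈ B, C s b ∈ B := by
    intro s hs b hb
    have h1 : C s b = (F s b)⁻¹ * b := by
      apply Subtype.ext
      rw [Subgroup.coe_mul, Subgroup.coe_inv, hF, hCm]
      group
    rw [h1]
    exact B.mul_mem (B.inv_mem (hs b)) hb
  have Tmul : ∀ {s t : N}, T s → T t → T (s * t) := by
    intro s t hs ht x
    have h1 : F (s * t) x = F s x * C s (F t x) := by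
      apply Subtype.ext
      rw [Subgroup.coe_mul, hF, hF, hCm, hF]
      push_cast
      group
    rw [h1]
    exact B.mul_mem (hs x) (Tinv hs _ (ht x))
  have Tone : T 1 := fun x => by
    have : F 1 x = 1 := Subtype.ext (by rw [hF]; simp)
    rw [this]; exact B.one_mem
  have Tpow : ∀ {s : N} (m : ℕ), T s → T (s ^ m) := by
    intro s m hs
    induction m with
    | zero => rw [pow_zero]; exact Tone
    | succ m ih => rw [pow_succ]; exact Tmul ih hs
  have Ta : T a' := fun x => (le_sup_left : (F a').range ≤ B) ⟨x, rfl⟩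
  have Tb : T b' := by
    intro x
    -- `C a' (F b' x) ∈ B`, and `a'` acts trivially on `A / B`
    have h1 : C a' (F b' x) ∈ B := (le_sup_right : ((C a').comp (F b')).range ≤ B) ⟨x, rfl⟩
    have h2 : F b' x = F a' (F b' x) * C a' (F b' x) := by
      apply Subtype.ext
      rw [Subgroup.coe_mul, hF a', hCm]
      group
    rw [h2]
    exact B.mul_mem (Ta _) h1
  have hwT : T (a' ^ i * b' ^ k) := Tmul (Tpow i Ta) (Tpow k Tb)
  have hw' : (π (a' ^ i * b' ^ k)) ^ 23 = 1 := by rw [map_mul, map_pow, map_pow]; exact hw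
  have hw1' : π (a' ^ i * b' ^ k) ≠ 1 := by rw [map_mul, map_pow, map_pow]; exact hw1
  have hv : (h : G) * ((a' * b' : N) : G)⁻¹ ∈ A := by
    rw [← Subgroup.coe_inv, ← Subgroup.coe_mul, ← H.ker, map_mul, map_inv, hab, map_mul, mul_inv_cancel]
  obtain ⟨x, hx, hxv⟩ := H.fill hw' hw1' hv
  have hxB : (⟨_, hv⟩ : A) ∈ B := by
    have : (⟨_, hv⟩ : A) = F (a' ^ i * b' ^ k) ⟨x, hx⟩ := Subtype.ext hxv.symm
    rw [this]; exact hwT _
  obtain ⟨p, q, hpq⟩ := mulB _ hxB
  have e : (h : G) * ((a' * b' : N) : G)⁻¹ = (p * (a' * (p : G)⁻¹ * (a' : G)⁻¹)) *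
      (a' * (q * (b' * (q : G)⁻¹ * (b' : G)⁻¹)) * (a' : G)⁻¹) := congrArg Subtype.val hpq
  have key : (h : G) = (p * a' * (p : G)⁻¹) * (q * b' * (q : G)⁻¹) := by
    calc (h : G) = (h : G) * ((a' * b' : N) : G)⁻¹ * ((a' * b' : N) : G) := by group
      _ = (p * (a' * (p : G)⁻¹ * (a' : G)⁻¹)) * (a' * (q * (b' * (q : G)⁻¹ * (b' : G)⁻¹)) * (a' : G)⁻¹) *
          ((a' * b' : N) : G) := by rw [e]
      _ = _ := by push_cast; group
  obtain ⟨s1, t1, hs1, ht1, e1⟩ := (h11 _ ha').conj (p : G)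
  obtain ⟨s2, t2, hs2, ht2, e2⟩ := (h11 _ hb').conj (q : G)
  exact ⟨s1, t1, s2, t2, hs1, ht1, hs2, ht2, by rw [key, e1, e2]; group⟩

end MExt

end

end Cfsg.Agent.H854.Ore
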