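import Cfsg.Agent.H860.TwoElem
import Cfsg.Agent.J4.Classes
import Cfsg.Agent.H858.VK
import Cfsg.Agent.H858.FixJ4

/-!
# Every 2-element of `Spor.J4` is a commutator (helper854)

`2^11:M24` contains a Sylow 2-subgroup; for each of the seven classes of 2-elements `m` of `M24` there are
`a, b` in `M24` with `m = [a, b]` such that the coset `2^11 m` consists of the `[x a, y b]` with `x, y` in `2^11`.
-/

set_option autoImplicit false

namespace Cfsg.Agent.H854.Ore

open Cfsg Cfsg.Agent.H860.Act Cfsg.Agent.H860.Orb Cfsg.Agent.H860.TwoElem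
open Cfsg.Agent.J4.ClassesAbs (Hyp exists_mul_of_mem_sup)
open Cfsg.Agent.J4.Beta Cfsg.Agent.J4.M24Hom
open Cfsg.Agent.SporadicStructure.M24El Cfsg.Agent.SporadicA.GolayPerm
open Cfsg.Agent.H860.Two24 Cfsg.Agent.H860.Two24Data
open Cfsg.Agent.J4.Rep112 (rho)

/-- the elements `a` -/
def tA : List ℕ := [607093902588685542489668855147072651, 65248537048057393924360590216759477, 831059946214713878599060458950888513, 886915564841414260889076428072585809, 810190584624309458820875217075130417, 886915564841414260889076428072585809, 65248537048057393924360590216759477]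

/-- the elements `b` -/
def tB : List ℕ := [607093902588685542489668855147072651, 261239168276298760702303966088138116, 103248333625386063001406422094585476, 221333684143766847489083516238902624, 933538837731058540480278900421254180, 307024064470621921936144537689112001, 193500951119323753325715406381431328]

/-- the elements `a b a⁻¹` -/
def tC : List ℕ := [607093902588685542489668855147072651, 357215721163544505522088037132373316, 60608412279852355956529972602706597, 66584624766970488143551602072572650, 431188194116924595038654483622594596, 926119135113829368897967840171174115, 189074652945061756948007296602119373]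

/-- the choice of `x` -/
def tX : List (List ℕ) := [[1854, 1595, 674, 2002, 1838, 1438, 1634, 2010, 858, 1326, 1882], [40, 220, 364, 135, 282, 143, 203, 435, 49, 145, 247], [780, 997, 44, 741, 125, 882, 971, 274, 403, 552, 262], [1009, 523, 647, 168, 654, 868, 778, 1023, 25, 850, 773], [29, 645, 695, 519, 624, 192, 672, 190, 613, 12, 34], [872, 875, 43, 236, 640, 457, 364, 580, 957, 579, 719], [163, 125, 222, 200, 514, 125, 138, 512, 141, 165, 214]]

/-- the choice of `y` -/
def tY : List (List ℕ) := [[0, 0, 0, 0, 0, 0, 0, 0, 0, 0, 0], [1, 17, 16, 16, 0, 17, 17, 16, 17, 0, 0], [4, 4, 4, 4, 0, 0, 4, 0, 4, 0, 0], [2, 2, 0, 0, 0, 0, 0, 2, 2, 0, 0], [1, 0, 0, 1, 1, 0, 5, 1, 0, 1, 0], [0, 1, 1, 0, 0, 1, 1, 1, 0, 1, 1], [4, 2, 2, 0, 0, 0, 6, 0, 0, 0, 6]]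

/-- check of the elements -/
def chkE (j : ℕ) : Bool :=
  ok (tA.getD j idP) && ok (tB.getD j idP) && ok (tC.getD j idP) && ok (rp.getD j idP) &&
    Nat.beq (pcomp (tC.getD j idP) (tA.getD j idP)) (pcomp (tA.getD j idP) (tB.getD j idP)) &&
    Nat.beq (pcomp (rp.getD j idP) (tB.getD j idP)) (tC.getD j idP)

/-- check of the vectors -/
def chkV (A C M X Y : List ℕ) : Bool :=
  (List.range 2048).all fun v => Nat.beq v (Nat.xor (Nat.xor (lin X v) (lin A (lin Y v)))
    (Nat.xor (lin C (lin X v)) (lin M (lin Y v))))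

theorem chkE_all : ∀ j < 7, chkE j = true := by decide +kernel

theorem chkV_at0 : chkV (AP (tA.getD 0 idP)) (AP (tC.getD 0 idP)) (AP (rp.getD 0 idP)) (tX.getD 0 [])
    (tY.getD 0 []) = true := by decide +kernel

theorem chkV_at1 : chkV (AP (tA.getD 1 idP)) (AP (tC.getD 1 idP)) (AP (rp.getD 1 idP)) (tX.getD 1 [])
    (tY.getD 1 []) = true := by decide +kernel

theorem chkV_at2 : chkV (AP (tA.getD 2 idP)) (AP (tC.getD 2 idP)) (AP (rp.getD 2 idP)) (tX.getD 2 [])
    (tY.getD 2 []) = true := by decide +kernel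

theorem chkV_at3 : chkV (AP (tA.getD 3 idP)) (AP (tC.getD 3 idP)) (AP (rp.getD 3 idP)) (tX.getD 3 [])
    (tY.getD 3 []) = true := by decide +kernel

theorem chkV_at4 : chkV (AP (tA.getD 4 idP)) (AP (tC.getD 4 idP)) (AP (rp.getD 4 idP)) (tX.getD 4 [])
    (tY.getD 4 []) = true := by decide +kernel

theorem chkV_at5 : chkV (AP (tA.getD 5 idP)) (AP (tC.getD 5 idP)) (AP (rp.getD 5 idP)) (tX.getD 5 [])
    (tY.getD 5 []) = true := by decide +kernel

theorem chkV_at6 : chkV (AP (tA.getD 6 idP)) (AP (tC.getD 6 idP)) (AP (rp.getD 6 idP)) (tX.getD 6 [])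
    (tY.getD 6 []) = true := by decide +kernel

theorem chkV_all : ∀ j < 7, chkV (AP (tA.getD j idP)) (AP (tC.getD j idP)) (AP (rp.getD j idP)) (tX.getD j [])
    (tY.getD j []) = true := by
  intro j hj
  match j, hj with
  | 0, _ => exact chkV_at0
  | 1, _ => exact chkV_at1
  | 2, _ => exact chkV_at2
  | 3, _ => exact chkV_at3
  | 4, _ => exact chkV_at4
  | 5, _ => exact chkV_at5
  | 6, _ => exact chkV_at6
  | (n + 7), h => exact absurd h (by omega)

section

variable {G : Type*} [Group G] {R : Subgroup G} {l : List G} {phi : M24 →* G}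

/-- the coset `2^11 m` consists of commutators -/
theorem coset_comm (H : Hyp R l phi) {j : ℕ} (hj : j < 7) {v : ℕ} (hv : v < 2048) :
    ∃ a ∈ R, ∃ b ∈ R, beta l v * phi (el (rp.getD j idP)) = a * b * a⁻¹ * b⁻¹ := by
  have hE := chkE_all j hj
  unfold chkE at hE
  simp only [Bool.and_eq_true] at hE
  obtain ⟨⟨⟨⟨⟨hA, hB⟩, hC⟩, hM⟩, h1⟩, h2⟩ := hE
  have h1 := congrArg el (Nat.eq_of_beq_eq_true h1)
  have h2 := congrArg el (Nat.eq_of_beq_eq_true h2)
  rw [el_pcomp hC hA, el_pcomp hA hB] at h1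
  rw [el_pcomp hM hB] at h2
  have hV := List.all_eq_true.1 (chkV_all j hj) v (List.mem_range.2 hv)
  have hV := Nat.eq_of_beq_eq_true hV
  have a1 := act_el H hA
  have a2 := act_el H hC
  have a3 := act_el H hM
  generalize tA.getD j idP = A at *
  generalize tB.getD j idP = B at *
  generalize tC.getD j idP = C at *
  generalize rp.getD j idP = M at *
  generalize lin (tX.getD j []) v = x at *
  generalize lin (tY.getD j []) v = y at *
  have bx := beta_xor l H.sq H.comm
  have binv : ∀ w, (beta l w)⁻¹ = beta l w := fun w => by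
    rw [inv_eq_iff_mul_eq_one, ← bx, Nat.xor_self, beta_zero]
  have p1 : phi (el C) * phi (el A) = phi (el A) * phi (el B) := by rw [← map_mul, ← map_mul, h1]
  have p2 : phi (el M) * phi (el B) = phi (el C) := by rw [← map_mul, h2]
  have e : beta l v = beta l x * beta l (lin (AP A) y) * (beta l (lin (AP C) x) * beta l (lin (AP M) y)) := by
    conv_lhs => rw [hV]
    exact (bx _ _).trans (by rw [show Nat.xor x (lin (AP A) y) = x ^^^ lin (AP A) y from rfl,
      show Nat.xor (lin (AP C) x) (lin (AP M) y) = lin (AP C) x ^^^ lin (AP M) y from rfl, bx, bx])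
  refine ⟨beta l x * phi (el A), R.mul_mem (beta_mem R l H.mem x) (H.le ⟨_, rfl⟩),
    beta l y * phi (el B), R.mul_mem (beta_mem R l H.mem y) (H.le ⟨_, rfl⟩), ?_⟩
  have q2 := a2 x
  have q3 := a3 y
  rw [e, ← a1 y, ← binv (lin (AP C) x), ← q2, ← binv (lin (AP M) y), ← q3]
  have p3 : (phi (el A))⁻¹ * phi (el C) = phi (el B) * (phi (el A))⁻¹ := by
    rw [inv_mul_eq_iff_eq_mul, ← mul_assoc, ← p1, mul_inv_cancel_right]
  have p4 : (phi (el C))⁻¹ * phi (el M) = (phi (el B))⁻¹ := by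
    rw [inv_mul_eq_iff_eq_mul, ← p2, mul_inv_cancel_right]
  generalize phi (el A) = α at *
  generalize phi (el B) = β at *
  generalize phi (el C) = γ at *
  generalize phi (el M) = μ at *
  generalize beta l x = ξ at *
  generalize beta l y = η at *
  calc ξ * (α * η * α⁻¹) * ((γ * ξ * γ⁻¹)⁻¹ * (μ * η * μ⁻¹)⁻¹) * μ
      = ξ * α * η * (α⁻¹ * γ) * ξ⁻¹ * (γ⁻¹ * μ) * η⁻¹ := by group
    _ = ξ * α * (η * β) * (ξ * α)⁻¹ * (η * β)⁻¹ := by rw [p3, p4]; group

/-- every 2-element is conjugate into one of the seven cosets -/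
theorem exists_coset [Finite G] (H : Hyp R l phi)
    (hodd : ¬ 2 ∣ ((Subgroup.closure {q | q ∈ l} ⊔ phi.range).subgroupOf R).index)
    (u : G) (huR : u ∈ R) {n : ℕ} (hu : u ^ 2 ^ n = 1) :
    ∃ j < 7, ∃ v < 2048, ∃ x ∈ R, x * u * x⁻¹ = beta l v * phi (el (rp.getD j idP)) := by
  have : Fact (Nat.Prime 2) := ⟨Nat.prime_two⟩
  obtain ⟨g, hg⟩ := exists_conj_mem ((Subgroup.closure {q | q ∈ l} ⊔ phi.range).subgroupOf R)
    hodd ⟨u, huR⟩ (n := n) (Subtype.ext hu)
  have hg' : (g : G)⁻¹ * u * g ∈ Subgroup.closure {q | q ∈ l} ⊔ phi.range := hg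
  have hc : Cj R u ((g : G)⁻¹ * u * g) := ⟨(g : G)⁻¹, R.inv_mem g.2, by group⟩
  have hk1 : ((g : G)⁻¹ * u * g) ^ 2 ^ n = 1 := by
    have h := conj_pow (i := 2 ^ n) (a := (g : G)⁻¹) (b := u)
    rw [inv_inv] at h
    rw [h, hu]; group
  generalize (g : G)⁻¹ * u * g = k at hg' hc hk1
  obtain ⟨q, hq, _, ⟨μ, rfl⟩, rfl⟩ := exists_mul_of_mem_sup H.norm hg'
  have hμ := pow_eq_one H hq hk1
  obtain ⟨c, j, hcj⟩ := two_conj hμ
  obtain ⟨v, hv, h1⟩ := lift_conj H hq hcj
  obtain ⟨j', hj', he⟩ : ∃ j' < 7, rp.getD j idP = rp.getD j' idP := by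
    by_cases hj : j < 7
    · exact ⟨j, hj, rfl⟩
    · refine ⟨0, by norm_num, ?_⟩
      have h3 : rp.length ≤ j := by
        have : rp.length = 7 := rfl
        omega
      rw [List.getD_eq_getElem?_getD, List.getElem?_eq_none h3]
      rfl
  rw [he] at h1
  exact ⟨j', hj', v, hv, hc.trans h1⟩

/-- every 2-element is a commutator -/
theorem two_comm_abs [Finite G] (H : Hyp R l phi)
    (hodd : ¬ 2 ∣ ((Subgroup.closure {q | q ∈ l} ⊔ phi.range).subgroupOf R).index)
    (u : G) (huR : u ∈ R) {n : ℕ} (hu : u ^ 2 ^ n = 1) :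
    ∃ a ∈ R, ∃ b ∈ R, u = a * b * a⁻¹ * b⁻¹ := by
  obtain ⟨j, hj, v, hv, x, hx, h3⟩ := exists_coset H hodd u huR hu
  obtain ⟨a, ha, b, hb, h2⟩ := coset_comm H hj hv
  refine ⟨x⁻¹ * a * x, R.mul_mem (R.mul_mem (R.inv_mem hx) ha) hx,
    x⁻¹ * b * x, R.mul_mem (R.mul_mem (R.inv_mem hx) hb) hx, ?_⟩
  have h4 : u = x⁻¹ * (a * b * a⁻¹ * b⁻¹) * x := by rw [← h2, ← h3]; group
  rw [h4]; group

end

theorem odd_index :
    ¬ 2 ∣ ((Subgroup.closure {q | q ∈ J4.Lower.qs} ⊔ J4.Classes.psi.range).subgroupOf rho.range).index := by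
  intro h2
  have h22 : ¬ 2 ^ 22 ∣ Nat.card rho.range := by
    intro h
    have h1 := h.trans (Subgroup.card_range_dvd rho)
    rw [H858.FixJ4.facts.2.1] at h1
    norm_num at h1
  apply h22
  have h3 := ((Subgroup.closure {q | q ∈ J4.Lower.qs} ⊔ J4.Classes.psi.range).subgroupOf rho.range).card_mul_index
  have h4 : Nat.card ((Subgroup.closure {q | q ∈ J4.Lower.qs} ⊔ J4.Classes.psi.range).subgroupOf rho.range) =
      Nat.card (Subgroup.closure {q | q ∈ J4.Lower.qs} ⊔ J4.Classes.psi.range : Subgroup (GL (Fin 112) (ZMod 2))) :=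
    Nat.card_congr (Subgroup.subgroupOfEquivOfLe J4.Classes.K_le).toEquiv
  rw [← h3, h4, show 2 ^ 22 = 2 ^ 21 * 2 from rfl]
  exact Nat.mul_dvd_mul J4.Classes.dvd_card_K h2

/-- **every 2-element of `Spor.J4` is a commutator** -/
theorem two_comm {g : Cfsg.Spor.J4} {n : ℕ} (hg : g ^ 2 ^ n = 1) : ∃ a b : Cfsg.Spor.J4, g = a * b * a⁻¹ * b⁻¹ := by
  obtain ⟨_, ⟨a, rfl⟩, _, ⟨b, rfl⟩, h⟩ := two_comm_abs J4.Classes.hyp odd_index (rho g) ⟨g, rfl⟩ (n := n)
    (by rw [← map_pow, hg, map_one])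
  refine ⟨a, b, H858.VK.rho_injective ?_⟩
  rw [h]; simp only [map_mul, map_inv]

end Cfsg.Agent.H854.Ore
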