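import Cfsg.Agent.H511.Ore.Reach
import Cfsg.Agent.H651.Two.Row
import Cfsg.Agent.H854.Ore.J4Cent
import Cfsg.Agent.H854.Ore.J4Two

/-!
# The Ore conjecture (S2443) for `J4` (helper854)
-/

set_option autoImplicit false

open Cfsg Subgroup

namespace Cfsg.Agent.H854.Ore

open Cfsg.Agent.H511.Ore Cfsg.Agent.H651.Two Cfsg.Agent.H653.Sieve Cfsg.Agent.H777.Ore
open Cfsg.Agent.H854.JM Cfsg.Agent.H854.JM.NonLocal
open Cfsg.Agent.OrdDiv Cfsg.Agent.H866 Cfsg.Agent.H866.J4Ord

/-- the group `Spor.J4` -/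
local notation "𝒢" => Cfsg.Spor.J4

/-- the columns of the primes dividing the order once -/
def cdJ : List CD :=
  [⟨29, 1, 28, 1, [(0, 0), (1, 1), (28, -1)], 0, false⟩,
    ⟨43, 1, 14, 3, [(0, 0), (1, 3), (14, -1), (29, 1), (42, -3)], 3, true⟩,
    ⟨23, 1, 22, 1, [(0, 0), (1, 1), (22, -1)], 0, false⟩,
    ⟨37, 1, 12, 3, [(0, 0), (1, 3), (12, -1), (25, 1), (36, -3)], 3, true⟩,
    ⟨31, 1, 10, 3, [(0, 0), (1, 3), (10, -1), (21, 1), (30, -3)], 3, true⟩]

/-- the factors of the order -/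
def LJ : List (ℕ × ℕ) := [(43, 1), (37, 1), (31, 1), (29, 1), (23, 1), (11, 3), (7, 1), (5, 1), (3, 3), (2, 21)]

theorem card'' : Nat.card 𝒢 = 86775571046077562880 := H858.FixJ4.facts.2.1

theorem hasJ : ∀ d ∈ cdJ, d.Has 𝒢 := by
  have hfin : Finite 𝒢 := H858.FixJ4.facts.1
  intro d hd
  simp only [cdJ, List.mem_cons, List.not_mem_nil, or_false] at hd
  rcases hd with rfl | rfl | rfl | rfl | rfl
  · exact has_of_sub (by norm_num) (by rw [card'']; norm_num) fun R hR => (H859.BigNum.data29' hR).1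
  · exact has_of_sub (by norm_num) (by rw [card'']; norm_num) fun R hR => (H859.BigNum.data43 hR).1
  · exact has_of_sub (by norm_num) (by rw [card'']; norm_num) fun R hR => (H859.BigNum.data23 hR).1
  · exact has_of_sub (by norm_num) (by rw [card'']; norm_num) fun R hR => (H859.BigNum.data37 hR).1
  · exact has_of_sub (by norm_num) (by rw [card'']; norm_num) fun R hR => (H859.BigNum.data31 hR).1

theorem hL : (LJ.all fun pa => Nat.Prime pa.1) = true := by simp [LJ]; norm_num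
theorem hLN : facProd LJ = 86775571046077562880 := by decide +kernel
theorem hcd : (cdJ.all (CD.ok 86775571046077562880)) = true := by decide +kernel
theorem hdiv : allDiv (100000 * 100000) (tst 43 2 [] cdJ) LJ 1 = true := by decide +kernel

theorem two_pow_of (g : 𝒢) (hg : ∀ p : ℕ, p.Prime → p ≠ 2 → ¬ p ∣ orderOf g) : ∃ n, orderOf g = 2 ^ n := by
  have hfin : Finite 𝒢 := H858.FixJ4.facts.1
  refine ⟨(orderOf g).primeFactorsList.length, Nat.eq_prime_pow_of_unique_prime_dvd (orderOf_pos g).ne' ?_⟩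
  intro d hd hdd
  by_contra h
  exact hg d hd h hdd

/-- **the Ore conjecture for `J4`** -/
theorem ore_J4 {S : Type*} [Group S] (h : Spor.IsoJ4 S) : AllC S := by
  obtain ⟨e⟩ := h
  refine AllC.congr (G := 𝒢) e.symm fun g => ?_
  by_cases hg : ∃ p : ℕ, p.Prime ∧ p ≠ 2 ∧ p ∣ orderOf g
  · obtain ⟨p, hp, h2, hd⟩ := hg
    have := simple_J
    have hfin : Finite 𝒢 := H858.FixJ4.facts.1
    exact isC_of_data noncomm_J 86775571046077562880 card'' LJ hL hLN cdJ hcd hasJ (m := 2) (D := 100000) (ex := [])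
      (fun χ h => H511.Ore.two_le_charDegree noncomm_J χ h) (fun χ => List.not_mem_nil)
      ⟨43, 1, 14, 3, [(0, 0), (1, 3), (14, -1), (29, 1), (42, -3)], 3, true⟩ (by simp [cdJ]) rfl hdiv 2661120
      (by norm_num [H511.Ore.s4]) (cent_le hp h2 hd)
  · push Not at hg
    obtain ⟨n, hn⟩ := two_pow_of g hg
    exact two_comm (n := n) (by rw [← hn]; exact pow_orderOf_eq_one g)

end Cfsg.Agent.H854.Ore
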