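import Cfsg.Agent.H854.Ore.Co1Two
import Cfsg.Agent.H630.Ore.Co1.Tr

/-!
# `Co1`: the elements of order 3 with `2^8` or `2^12` fixed points on `Λ / 2 Λ` are conjugate into `2^11 : M24` (helper854)

* `three_in_F`; `three_pr` : they are products of two elements of order prime to 6; `three_prod`.
-/

set_option autoImplicit false
set_option Elab.async false

open Cfsg Subgroup

namespace Cfsg.Agent.H854.Ore.CoOne

open Cfsg.Agent.MonsterU.CoFrameF
open Cfsg.Agent.SporadicA.Co0Mono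
open Cfsg.Agent.CoOneType.CoOneE (E pr)
open Cfsg.Agent.SporadicStructure.M24El Cfsg.Agent.SporadicA.GolayPerm Cfsg.Agent.Lib.F2Mat
open Cfsg.Agent.LThreeMB (fr fr_conj)
open Cfsg.Agent.Co2Type.Mono (mo tr8 tr8_mo trN)

/-- an element of cycle type `1^6 3^6` -/
def pA : ℕ := 693793083484272819170454468079749312

/-- an element of cycle type `3^8` -/
def pB : ℕ := 917150455939460404939281612745760357

def chkT (P : ℕ) : Bool := ok P && (Nat.beq (ppw P 3) idP && !(Nat.beq (papp P 0) 0 && (Nat.beq (papp P 1) 1 &&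
  (Nat.beq (papp P 2) 2 && (Nat.beq (papp P 3) 3 && (Nat.beq (papp P 4) 4 && (Nat.beq (papp P 5) 5 && Nat.beq (papp P 6) 6)))))))

theorem chkA : chkT pA = true := by decide +kernel
theorem chkB : chkT pB = true := by decide +kernel
theorem trA : trN 0 pA = 6 := by decide +kernel
theorem trB : trN 0 pB = 0 := by decide +kernel


theorem mo0 (P : ℕ) : mo 0 P = permCo0 (el P) := by
  unfold mo
  rw [Cfsg.Agent.Co2Type.Mono.cd_zero, signCo0_zero, one_mul]

theorem order_of_chkT {P : ℕ} (h : chkT P = true) : orderOf (pr (permCo0 (el P))) = 3 := by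
  have : Fact (Nat.Prime 3) := ⟨by norm_num⟩
  unfold chkT at h
  rw [Bool.and_eq_true, Bool.and_eq_true] at h
  obtain ⟨h1, h2, h3⟩ := h
  have e3 := congrArg el (Nat.eq_of_beq_eq_true h2)
  rw [(el_ppw h1 3).2, el_idP] at e3
  have hm : ∃ i < 24, papp P i ≠ i := by
    by_contra hcon
    push Not at hcon
    rw [hcon 0 (by norm_num), hcon 1 (by norm_num), hcon 2 (by norm_num), hcon 3 (by norm_num), hcon 4 (by norm_num),
      hcon 5 (by norm_num), hcon 6 (by norm_num)] at h3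
    exact absurd h3 (by decide)
  refine orderOf_eq_prime (by rw [← map_pow, ← map_pow, e3, map_one, map_one]) ?_
  intro h
  apply el_ne h1 hm
  have h6 : toM24 ⟨pr (signCo0 0 * permCo0 (el P)), sp_mem_F 0 _⟩ = el P := toM24_eq rfl
  rw [← h6, toM24_eq_one_iff]
  show pr (signCo0 0 * permCo0 (el P)) ∈ E
  rw [signCo0_zero, one_mul, h]
  exact E.one_mem

theorem mem_F_perm (P : ℕ) : pr (permCo0 (el P)) ∈ F := by
  have := sp_mem_F 0 (el P)
  rwa [signCo0_zero, one_mul] at this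

theorem ok_of_chkT {P : ℕ} (h : chkT P = true) : ok P = true := by
  unfold chkT at h
  rw [Bool.and_eq_true] at h
  exact h.1

theorem fr_A : fr (pr (permCo0 (el pA))) = 2 ^ 12 := by
  have h1 : tr8 (permCo0 (el pA)) = 48 := by
    rw [← mo0, tr8_mo Cfsg.Agent.SporadicA.GolayBase.isCode_zero (ok_of_chkT chkA), trA]; norm_num
  rcases H630.Ore.Co1.Tr.fr_cases (g := permCo0 (el pA)) (order_of_chkT chkA) with h | h | h | h
  · rw [h1] at h; omega
  · rw [h1] at h; omega
  · rw [h1] at h; omega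
  · exact h.1

theorem fr_B : fr (pr (permCo0 (el pB))) = 2 ^ 8 := by
  have h1 : tr8 (permCo0 (el pB)) = 0 := by
    rw [← mo0, tr8_mo Cfsg.Agent.SporadicA.GolayBase.isCode_zero (ok_of_chkT chkB), trB]; norm_num
  rcases H630.Ore.Co1.Tr.fr_cases (g := permCo0 (el pB)) (order_of_chkT chkB) with h | h | h | h
  · rw [h1] at h; omega
  · rw [h1] at h; omega
  · exact h.1
  · rw [h1] at h; omega

/-- **the elements of order 3 with `2^8` or `2^12` fixed points are conjugate into `F`** -/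
theorem three_in_F {s : Spor.Co1} (hs : orderOf s = 3) (hf : fr s = 2 ^ 8 ∨ fr s = 2 ^ 12) : ∃ k : Spor.Co1, k * s * k⁻¹ ∈ F := by
  rcases hf with hf | hf
  · obtain ⟨k, hk⟩ := LThreeCo1.Ranks.eight s _ hs (order_of_chkT chkB) hf fr_B
    exact ⟨k, hk ▸ mem_F_perm pB⟩
  · obtain ⟨k, hk⟩ := LThreeCo1.Ranks.twelve s _ hs (order_of_chkT chkA) hf fr_A
    exact ⟨k, hk ▸ mem_F_perm pA⟩

/-- **they are products of two elements of order prime to 6** -/
theorem three_pr {s : Spor.Co1} (hs : orderOf s = 3) (hf : fr s = 2 ^ 8 ∨ fr s = 2 ^ 12) : H78.Pw.Pr 6 s := by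
  obtain ⟨k, hk⟩ := three_in_F hs hf
  exact (pr_F hk).of_conj

theorem three_prod {s : Spor.Co1} (hs : orderOf s = 3) (hf : fr s = 2 ^ 8 ∨ fr s = 2 ^ 12) :
    ∃ a b : Spor.Co1, a ^ 23 = 1 ∧ b ^ 8855 = 1 ∧ s = a * b := by
  obtain ⟨k, hk⟩ := three_in_F hs hf
  obtain ⟨a, b, ha, hb, h⟩ := prod_F hk
  have hc : ∀ (m : ℕ) (z : Spor.Co1), z ^ m = 1 → (k⁻¹ * z * k) ^ m = 1 := by
    intro m z hz
    have h := conj_pow (i := m) (a := k⁻¹) (b := z)
    rw [inv_inv] at h
    rw [h, hz]; group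
  refine ⟨k⁻¹ * a * k, k⁻¹ * b * k, hc _ _ ha, hc _ _ hb, ?_⟩
  calc s = k⁻¹ * (k * s * k⁻¹) * k := by group
    _ = k⁻¹ * (a * b) * k := by rw [h]
    _ = _ := by group

end Cfsg.Agent.H854.Ore.CoOne
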