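import Cfsg.Agent.J4.Beta

/-!
# Identities between xor-additive functions are checked on the powers of two (helper129, memory of the kernel)
-/

set_option autoImplicit false

namespace Cfsg.Agent.H854.Ore.LinExt

open Cfsg.Agent.J4.Beta

/-- additive for xor -/
def XAdd (f : ℕ → ℕ) : Prop := ∀ v w, f (v ^^^ w) = f v ^^^ f w

theorem XAdd.lin (A : List ℕ) : XAdd (lin A) := by
  intro v w
  induction A generalizing v w with
  | nil => rw [lin_nil, lin_nil, lin_nil]; rfl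
  | cons a A ih =>
    rw [lin_cons, lin_cons, lin_cons, xor_div_two, ih, xor_mod_two]
    by_cases h1 : v % 2 = 1 <;> by_cases h2 : w % 2 = 1
    · have h3 : ¬ (v % 2 + w % 2) % 2 = 1 := by omega
      rw [if_pos h1, if_pos h2, if_neg h3, Nat.xor_comm a (J4.Beta.lin A (w / 2)), ← Nat.xor_assoc,
        Nat.xor_assoc a, Nat.xor_comm a, Nat.xor_assoc, Nat.xor_self, Nat.xor_zero]
    · have h3 : (v % 2 + w % 2) % 2 = 1 := by omega
      rw [if_pos h1, if_neg h2, if_pos h3, Nat.xor_assoc]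
    · have h3 : (v % 2 + w % 2) % 2 = 1 := by omega
      rw [if_neg h1, if_pos h2, if_pos h3, ← Nat.xor_assoc, ← Nat.xor_assoc, Nat.xor_comm a]
    · have h3 : ¬ (v % 2 + w % 2) % 2 = 1 := by omega
      rw [if_neg h1, if_neg h2, if_neg h3]

theorem XAdd.id : XAdd (fun v => v) := fun _ _ => rfl

theorem XAdd.comp {f g : ℕ → ℕ} (hf : XAdd f) (hg : XAdd g) : XAdd (fun v => f (g v)) := by
  intro v w
  show f (g (v ^^^ w)) = _
  rw [hg, hf]

theorem XAdd.xor {f g : ℕ → ℕ} (hf : XAdd f) (hg : XAdd g) : XAdd (fun v => Nat.xor (f v) (g v)) := by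
  intro v w
  show f (v ^^^ w) ^^^ g (v ^^^ w) = (f v ^^^ g v) ^^^ (f w ^^^ g w)
  rw [hf, hg]
  simp only [Nat.xor_comm, Nat.xor_left_comm]

theorem two_pow_xor {n w : ℕ} (hw : w < 2 ^ n) : 2 ^ n ^^^ w = 2 ^ n + w := by
  have h1 : (2 ^ n ^^^ w) / 2 ^ n = 1 := by
    rw [Nat.xor_div_two_pow, Nat.div_self (Nat.two_pow_pos n), Nat.div_eq_of_lt hw]; rfl
  have h2 : (2 ^ n ^^^ w) % 2 ^ n = w := by
    rw [Nat.xor_mod_two_pow, Nat.mod_self, Nat.zero_xor, Nat.mod_eq_of_lt hw]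
  have h3 := Nat.div_add_mod (2 ^ n ^^^ w) (2 ^ n)
  rw [h1, h2] at h3
  omega

/-- two additive functions which agree on the powers of two -/
theorem XAdd.ext {f g : ℕ → ℕ} (hf : XAdd f) (hg : XAdd g) {n : ℕ} (h : ∀ i < n, f (2 ^ i) = g (2 ^ i)) :
    ∀ v < 2 ^ n, f v = g v := by
  induction n with
  | zero =>
    intro v hv
    have h0 : v = 0 := by omega
    have e1 := hf 0 0
    have e2 := hg 0 0
    rw [Nat.xor_self] at e1 e2
    rw [Nat.xor_self] at e1 e2
    rw [h0, e1, e2]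
  | succ n ih =>
    intro v hv
    have ih := ih (fun i hi => h i (by omega))
    by_cases hlt : v < 2 ^ n
    · exact ih v hlt
    · have hw : v - 2 ^ n < 2 ^ n := by rw [pow_succ] at hv; omega
      have hd : v = 2 ^ n ^^^ (v - 2 ^ n) := by rw [two_pow_xor hw]; omega
      rw [hd, hf, hg, h n (by omega), ih _ hw]

end Cfsg.Agent.H854.Ore.LinExt
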