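import Cfsg.Agent.H854.Ore.J4
import Cfsg.Agent.H854.Ore.FourT
import Cfsg.Agent.H854.Ore.LinExt

/-!
# `J4`: every element is a product of four elements with square one (S4171) (helper854)
-/

set_option autoImplicit false

open Cfsg
open Cfsg.Agent.H854.JM

namespace Cfsg.Agent.H854.Ore

open Cfsg.Agent.H860.Act Cfsg.Agent.H860.Orb Cfsg.Agent.H860.TwoElem
open Cfsg.Agent.J4.ClassesAbs (Hyp exists_mul_of_mem_sup)
open Cfsg.Agent.J4.Beta Cfsg.Agent.J4.M24Hom
open Cfsg.Agent.SporadicStructure.M24El Cfsg.Agent.SporadicA.GolayPerm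
open Cfsg.Agent.H860.Two24 Cfsg.Agent.H860.Two24Data
open Cfsg.Agent.J4.Rep112 (rho)
open Cfsg.Agent.H777.Ore

/-- the involutions `t1` -/
def tT1 : List ℕ := [959854378970382820114445638170249266, 760809890523349869123231928395934988, 384884597871084125554036668121875531, 640702687920836906763276980468269317, 521366414552910786153029034648536137, 415687454390851371917420043296640214, 433851538216755427168869970468975617]

/-- the involutions `t2` -/
def tT2 : List ℕ := [459084066422389376177319864418506432, 726169335499507506439770824863090816, 320115590329072388348402571430434817, 251960827057229500601771245657840240, 521366414552910786153029034648536137, 402005540605198069802445166374683717, 901822377659586917590841279842881571]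

/-- the involutions `t3` -/
def tT3 : List ℕ := [959854378970382820114445638170249266, 569252781265229289329669654509092898, 961899110541814789908658388543678741, 132941620994835479617715115405317264, 387095554345892207672472776726391856, 690021148873038791074896445647135950, 647802026470210008058013314647734953]

/-- the involutions `t4` -/
def tT4 : List ℕ := [499094861663243689451700324206158966, 139645724156740834627360971196967536, 589386951847630982291847252009991851, 606813812919849241793266744067496961, 486340593181737048748086938927844393, 152787951465653389924420534250749125, 716805247544945156181784710966422019]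

/-- the choice of `v1` -/
def tV1 : List (List ℕ) := [[457, 1707, 1966, 1954, 275, 488, 488, 296, 1890, 608, 1227], [1, 1346, 1348, 1709, 1667, 1669, 855, 1555, 1388, 1000, 1595], [1234, 1667, 478, 1958, 1988, 373, 1940, 1065, 1372, 1747, 1576], [576, 741, 691, 88, 809, 663, 809, 705, 719, 361, 536], [5, 187, 0, 177, 20, 177, 27, 17, 347, 15, 1551], [293, 104, 1303, 220, 1407, 54, 130, 234, 1313, 856, 275], [1991, 571, 696, 1998, 340, 1630, 1795, 1407, 1467, 1795, 71]]

/-- the choice of `v2` -/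
def tV2 : List (List ℕ) := [[32, 35, 63, 63, 28, 32, 90, 90, 31, 122, 60], [0, 44, 44, 14, 1365, 14, 1324, 1365, 262, 383, 1030], [170, 2, 1158, 1437, 1463, 1461, 1463, 128, 409, 170, 130], [358, 1120, 1126, 6, 303, 1126, 297, 358, 1071, 297, 303], [0, 0, 0, 0, 0, 0, 0, 0, 0, 0, 0], [1302, 545, 529, 1928, 1184, 1168, 792, 545, 919, 935, 529], [341, 411, 135, 341, 147, 381, 73, 206, 93, 117, 230]]

/-- the choice of `v3` -/
def tV3 : List (List ℕ) := [[0, 0, 0, 0, 0, 0, 0, 0, 0, 0, 0], [0, 0, 0, 0, 0, 0, 0, 0, 0, 0, 0], [0, 0, 0, 0, 0, 0, 0, 0, 0, 0, 0], [0, 12, 12, 0, 0, 12, 0, 0, 12, 0, 12], [4, 185, 4, 185, 4, 145, 91, 145, 91, 527, 527], [0, 0, 0, 0, 0, 0, 0, 0, 0, 0, 0], [0, 0, 0, 0, 0, 0, 0, 0, 0, 0, 0]]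

/-- the choice of `v4` -/
def tV4 : List (List ℕ) := [[0, 0, 0, 0, 0, 0, 0, 0, 0, 0, 0], [0, 0, 0, 0, 0, 0, 0, 0, 0, 0, 0], [0, 0, 0, 0, 0, 0, 0, 0, 0, 0, 0], [0, 0, 0, 0, 0, 0, 0, 0, 0, 0, 0], [0, 0, 0, 0, 0, 0, 0, 0, 0, 0, 0], [0, 0, 0, 0, 0, 0, 0, 0, 0, 0, 0], [0, 0, 0, 0, 0, 0, 0, 0, 0, 0, 0]]

/-- check of the elements -/
def chkI (a b c d m : ℕ) : Bool :=
  (ok a && ok b && ok c && ok d) && (Nat.beq (pcomp a a) idP && Nat.beq (pcomp b b) idP && Nat.beq (pcomp c c) idP &&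
    Nat.beq (pcomp d d) idP) && Nat.beq (pcomp (pcomp (pcomp a b) c) d) m

/-- check of the vectors -/
def chkW (A B C D P2 P3 X Y Z W : List ℕ) : Bool :=
  (List.range 2048).all fun v => (Nat.beq (lin A (lin X v)) (lin X v) && Nat.beq (lin B (lin Y v)) (lin Y v)) &&
    (Nat.beq (lin C (lin Z v)) (lin Z v) && Nat.beq (lin D (lin W v)) (lin W v)) &&
    Nat.beq v (Nat.xor (Nat.xor (lin X v) (lin A (lin Y v))) (Nat.xor (lin P2 (lin Z v)) (lin P3 (lin W v))))

theorem chkI_all : ∀ j < 7, chkI (tT1.getD j idP) (tT2.getD j idP) (tT3.getD j idP) (tT4.getD j idP)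
    (rp.getD j idP) = true := by decide +kernel

/-- check of the vectors, on the powers of two -/
def chkWb (A B C D P2 P3 X Y Z W : List ℕ) : Bool :=
  (List.range 11).all fun i => (Nat.beq (lin A (lin X (2 ^ i))) (lin X (2 ^ i)) &&
      Nat.beq (lin B (lin Y (2 ^ i))) (lin Y (2 ^ i))) &&
    (Nat.beq (lin C (lin Z (2 ^ i))) (lin Z (2 ^ i)) && Nat.beq (lin D (lin W (2 ^ i))) (lin W (2 ^ i))) &&
    Nat.beq (2 ^ i) (Nat.xor (Nat.xor (lin X (2 ^ i)) (lin A (lin Y (2 ^ i))))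
      (Nat.xor (lin P2 (lin Z (2 ^ i))) (lin P3 (lin W (2 ^ i)))))

open LinExt in
theorem chkW_of_chkWb {A B C D P2 P3 X Y Z W : List ℕ} (h : chkWb A B C D P2 P3 X Y Z W = true) :
    chkW A B C D P2 P3 X Y Z W = true := by
  have key : ∀ i < 11, lin A (lin X (2 ^ i)) = lin X (2 ^ i) ∧ lin B (lin Y (2 ^ i)) = lin Y (2 ^ i) ∧
      lin C (lin Z (2 ^ i)) = lin Z (2 ^ i) ∧ lin D (lin W (2 ^ i)) = lin W (2 ^ i) ∧
      2 ^ i = Nat.xor (Nat.xor (lin X (2 ^ i)) (lin A (lin Y (2 ^ i))))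
        (Nat.xor (lin P2 (lin Z (2 ^ i))) (lin P3 (lin W (2 ^ i)))) := by
    intro i hi
    have := List.all_eq_true.1 h i (List.mem_range.2 hi)
    simp only [Bool.and_eq_true] at this
    obtain ⟨⟨⟨w1, w2⟩, w3, w4⟩, hV⟩ := this
    exact ⟨Nat.eq_of_beq_eq_true w1, Nat.eq_of_beq_eq_true w2, Nat.eq_of_beq_eq_true w3, Nat.eq_of_beq_eq_true w4,
      Nat.eq_of_beq_eq_true hV⟩
  have b : ∀ {a c : ℕ}, a = c → Nat.beq a c = true := fun h => by rw [h]; exact Nat.beq_refl _
  refine List.all_eq_true.2 fun v hv => ?_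
  have hv : v < 2 ^ 11 := List.mem_range.1 hv
  simp only [Bool.and_eq_true]
  refine ⟨⟨⟨b ?_, b ?_⟩, b ?_, b ?_⟩, b ?_⟩
  · exact XAdd.ext ((XAdd.lin A).comp (XAdd.lin X)) (XAdd.lin X) (fun i hi => (key i hi).1) v hv
  · exact XAdd.ext ((XAdd.lin B).comp (XAdd.lin Y)) (XAdd.lin Y) (fun i hi => (key i hi).2.1) v hv
  · exact XAdd.ext ((XAdd.lin C).comp (XAdd.lin Z)) (XAdd.lin Z) (fun i hi => (key i hi).2.2.1) v hv
  · exact XAdd.ext ((XAdd.lin D).comp (XAdd.lin W)) (XAdd.lin W) (fun i hi => (key i hi).2.2.2.1) v hv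
  · exact XAdd.ext XAdd.id (((XAdd.lin X).xor ((XAdd.lin A).comp (XAdd.lin Y))).xor
      (((XAdd.lin P2).comp (XAdd.lin Z)).xor ((XAdd.lin P3).comp (XAdd.lin W))))
      (fun i hi => (key i hi).2.2.2.2) v hv

theorem chkWb_all : ∀ j < 7, chkWb (AP (tT1.getD j idP)) (AP (tT2.getD j idP)) (AP (tT3.getD j idP)) (AP (tT4.getD j idP))
    (AP (pcomp (tT1.getD j idP) (tT2.getD j idP))) (AP (pcomp (pcomp (tT1.getD j idP) (tT2.getD j idP)) (tT3.getD j idP)))
    (tV1.getD j []) (tV2.getD j []) (tV3.getD j []) (tV4.getD j []) = true := by decide +kernel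

theorem chkW_all : ∀ j < 7, chkW (AP (tT1.getD j idP)) (AP (tT2.getD j idP)) (AP (tT3.getD j idP)) (AP (tT4.getD j idP))
    (AP (pcomp (tT1.getD j idP) (tT2.getD j idP))) (AP (pcomp (pcomp (tT1.getD j idP) (tT2.getD j idP)) (tT3.getD j idP)))
    (tV1.getD j []) (tV2.getD j []) (tV3.getD j []) (tV4.getD j []) = true :=
  fun j hj => chkW_of_chkWb (chkWb_all j hj)

section

variable {G : Type*} [Group G] {R : Subgroup G} {l : List G} {phi : M24 →* G}

/-- a product of four elements of `R` with square one -/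
def I4R (R : Subgroup G) (g : G) : Prop :=
  ∃ a ∈ R, ∃ b ∈ R, ∃ c ∈ R, ∃ d ∈ R, a * a = 1 ∧ b * b = 1 ∧ c * c = 1 ∧ d * d = 1 ∧ g = a * b * c * d

/-- the coset `2^11 m` consists of products of four involutions -/
theorem coset_four (H : Hyp R l phi) {j : ℕ} (hj : j < 7) {v : ℕ} (hv : v < 2048) :
    I4R R (J4.Beta.beta l v * phi (el (rp.getD j idP))) := by
  have hE := chkI_all j hj
  unfold chkI at hE
  simp only [Bool.and_eq_true] at hE
  obtain ⟨⟨⟨⟨⟨hA, hB⟩, hC⟩, hD⟩, ⟨⟨⟨a2, b2⟩, c2⟩, d2⟩⟩, hM⟩ := hE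
  have hW := List.all_eq_true.1 (chkW_all j hj) v (List.mem_range.2 hv)
  simp only [Bool.and_eq_true] at hW
  obtain ⟨⟨⟨w1, w2⟩, w3, w4⟩, hV⟩ := hW
  have w1 := Nat.eq_of_beq_eq_true w1
  have w2 := Nat.eq_of_beq_eq_true w2
  have w3 := Nat.eq_of_beq_eq_true w3
  have w4 := Nat.eq_of_beq_eq_true w4
  have hV := Nat.eq_of_beq_eq_true hV
  generalize tT1.getD j idP = A at *
  generalize tT2.getD j idP = B at *
  generalize tT3.getD j idP = C at *
  generalize tT4.getD j idP = D at *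
  generalize rp.getD j idP = M at *
  have hAB := ok_pcomp hA hB
  have hABC := ok_pcomp hAB hC
  have a2 := congrArg el (Nat.eq_of_beq_eq_true a2)
  have b2 := congrArg el (Nat.eq_of_beq_eq_true b2)
  have c2 := congrArg el (Nat.eq_of_beq_eq_true c2)
  have d2 := congrArg el (Nat.eq_of_beq_eq_true d2)
  have hM := congrArg el (Nat.eq_of_beq_eq_true hM)
  rw [el_pcomp hA hA, el_idP] at a2
  rw [el_pcomp hB hB, el_idP] at b2
  rw [el_pcomp hC hC, el_idP] at c2
  rw [el_pcomp hD hD, el_idP] at d2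
  have e2 := act_el H hAB (lin (tV3.getD j []) v)
  have e3 := act_el H hABC (lin (tV4.getD j []) v)
  rw [el_pcomp hABC hD] at hM
  rw [el_pcomp hAB hC] at hM e3
  rw [el_pcomp hA hB] at hM e2 e3
  have f1 := act_el H hA (lin (tV1.getD j []) v)
  have f2 := act_el H hB (lin (tV2.getD j []) v)
  have f3 := act_el H hC (lin (tV3.getD j []) v)
  have f4 := act_el H hD (lin (tV4.getD j []) v)
  have e1 := act_el H hA (lin (tV2.getD j []) v)
  rw [w1] at f1
  rw [w2] at f2
  rw [w3] at f3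
  rw [w4] at f4
  generalize lin (tV1.getD j []) v = x at *
  generalize lin (tV2.getD j []) v = y at *
  generalize lin (tV3.getD j []) v = z at *
  generalize lin (tV4.getD j []) v = w at *
  have bx := beta_xor l H.sq H.comm
  have bsq : ∀ w, J4.Beta.beta l w * J4.Beta.beta l w = 1 := fun w => by rw [← bx, Nat.xor_self, beta_zero]
  have e : J4.Beta.beta l v = J4.Beta.beta l x * J4.Beta.beta l (lin (AP A) y) * (J4.Beta.beta l (lin (AP (pcomp A B)) z) *
      J4.Beta.beta l (lin (AP (pcomp (pcomp A B) C)) w)) := by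
    conv_lhs => rw [hV]
    exact (bx _ _).trans (by rw [show Nat.xor x (lin (AP A) y) = x ^^^ lin (AP A) y from rfl,
      show Nat.xor (lin (AP (pcomp A B)) z) (lin (AP (pcomp (pcomp A B) C)) w) =
        lin (AP (pcomp A B)) z ^^^ lin (AP (pcomp (pcomp A B) C)) w from rfl, bx, bx])
  have sq : ∀ (τ : M24) (u : ℕ), τ * τ = 1 → phi τ * J4.Beta.beta l u * (phi τ)⁻¹ = J4.Beta.beta l u →
      J4.Beta.beta l u * phi τ * (J4.Beta.beta l u * phi τ) = 1 := by
    intro τ u h1 h2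
    have h3 : phi τ * phi τ = 1 := by rw [← map_mul, h1, map_one]
    calc J4.Beta.beta l u * phi τ * (J4.Beta.beta l u * phi τ)
        = J4.Beta.beta l u * (phi τ * J4.Beta.beta l u * (phi τ)⁻¹) * (phi τ * phi τ) := by group
      _ = 1 := by rw [h2, h3, bsq, one_mul]
  have mem : ∀ (u : ℕ) (τ : M24), J4.Beta.beta l u * phi τ ∈ R := fun u τ =>
    R.mul_mem (beta_mem R l H.mem u) (H.le ⟨_, rfl⟩)
  refine ⟨_, mem x (el A), _, mem y (el B), _, mem z (el C), _, mem w (el D), sq _ _ a2 f1, sq _ _ b2 f2,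
    sq _ _ c2 f3, sq _ _ d2 f4, ?_⟩
  rw [e, ← e1, ← e2, ← e3, ← hM]
  simp only [map_mul]
  group

theorem two_four_abs [Finite G] (H : Hyp R l phi)
    (hodd : ¬ 2 ∣ ((Subgroup.closure {q | q ∈ l} ⊔ phi.range).subgroupOf R).index)
    (u : G) (huR : u ∈ R) {n : ℕ} (hu : u ^ 2 ^ n = 1) : I4R R u := by
  obtain ⟨j, hj, v, hv, x, hx, h3⟩ := exists_coset H hodd u huR hu
  obtain ⟨a, ha, b, hb, c, hc, d, hd, a2, b2, c2, d2, h⟩ := coset_four H hj hv
  have key : ∀ y ∈ R, x⁻¹ * y * x ∈ R := fun y hy => R.mul_mem (R.mul_mem (R.inv_mem hx) hy) hx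
  have sq : ∀ y : G, y * y = 1 → x⁻¹ * y * x * (x⁻¹ * y * x) = 1 := fun y hy => by
    calc x⁻¹ * y * x * (x⁻¹ * y * x) = x⁻¹ * (y * y) * x := by group
      _ = 1 := by rw [hy]; group
  refine ⟨_, key a ha, _, key b hb, _, key c hc, _, key d hd, sq a a2, sq b b2, sq c c2, sq d d2, ?_⟩
  have h4 : u = x⁻¹ * (a * b * c * d) * x := by rw [← h, ← h3]; group
  rw [h4]; group

end

/-- every 2-element of `Spor.J4` is a product of four elements with square one -/
theorem two_four {g : Cfsg.Spor.J4} {n : ℕ} (hg : g ^ 2 ^ n = 1) : I4 g := by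
  obtain ⟨_, ⟨a, rfl⟩, _, ⟨b, rfl⟩, _, ⟨c, rfl⟩, _, ⟨d, rfl⟩, a2, b2, c2, d2, h⟩ :=
    two_four_abs J4.Classes.hyp odd_index (rho g) ⟨g, rfl⟩ (n := n) (by rw [← map_pow, hg, map_one])
  have inj := H858.VK.rho_injective
  refine ⟨a, b, c, d, inj ?_, inj ?_, inj ?_, inj ?_, inj ?_⟩
  · rw [map_mul, a2, map_one]
  · rw [map_mul, b2, map_one]
  · rw [map_mul, c2, map_one]
  · rw [map_mul, d2, map_one]
  · rw [h]; simp only [map_mul]

theorem sr_43 : ∀ x : Cfsg.Spor.J4, orderOf x = 43 → SR x := by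
  intro x hx
  have hfin : Finite Cfsg.Spor.J4 := H858.FixJ4.facts.1
  have : Fact (Nat.Prime 43) := ⟨by norm_num⟩
  obtain ⟨h1, h2⟩ := H859.BigNum.data43 (P := Subgroup.zpowers x) (by rw [Nat.card_zpowers, hx])
  refine invert_of_card (p := 43) (by norm_num) hx (by rw [← cent_zpowers, h1]) ?_
  rw [h2]; norm_num

/-- **`J4`, products of four involutions** -/
theorem four_J4 {S : Type*} [Group S] (h : Spor.IsoJ4 S) : Inv4 S := by
  obtain ⟨e⟩ := h
  have key : Inv4 Cfsg.Spor.J4 := by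
    intro g
    by_cases hg : ∃ p : ℕ, p.Prime ∧ p ≠ 2 ∧ p ∣ orderOf g
    · obtain ⟨p, hp, h2, hd⟩ := hg
      have := simple_J
      have hfin : Finite Cfsg.Spor.J4 := H858.FixJ4.facts.1
      exact i4_of_data noncomm_J 86775571046077562880 card'' LJ hL hLN cdJ hcd hasJ (m := 2) (D := 100000) (ex := [])
        (fun χ h => H511.Ore.two_le_charDegree noncomm_J χ h) (fun χ => List.not_mem_nil)
        ⟨43, 1, 14, 3, [(0, 0), (1, 3), (14, -1), (29, 1), (42, -3)], 3, true⟩ (by simp [cdJ]) rfl hdiv sr_43 2661120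
        (by norm_num [H511.Ore.s4]) (cent_le hp h2 hd)
    · push Not at hg
      obtain ⟨n, hn⟩ := two_pow_of g hg
      exact two_four (n := n) (by rw [← hn]; exact pow_orderOf_eq_one g)
  intro s
  obtain ⟨a, b, c, d, a2, b2, c2, d2, hab⟩ := key (e s)
  refine ⟨e.symm a, e.symm b, e.symm c, e.symm d, ?_, ?_, ?_, ?_, ?_⟩
  · rw [← map_mul, a2, map_one]
  · rw [← map_mul, b2, map_one]
  · rw [← map_mul, c2, map_one]
  · rw [← map_mul, d2, map_one]
  · rw [← map_mul, ← map_mul, ← map_mul, ← hab, e.symm_apply_apply]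

end Cfsg.Agent.H854.Ore
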