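import Cfsg.Agent.H854.Ore.ExtAll
import Cfsg.Agent.H518.Ore.CoOneN

/-!
# `Co1`: the subgroup `F = 2^11 : M24` (S2465, S2453, S4171) (helper854)

* `ext : MExt E F toM24`;
* `two_prod` : every 2-element is a product of two elements of order 23; `two_pr`, `all_pr_F`, `pr_dodecad` : the inputs
  `two` and `isD` of `H630.Ore.Co1.InputsP (Pr 6)`;
* `two_four` : every 2-element is a product of four elements of square one.
-/

set_option autoImplicit false

open Cfsg Subgroup

namespace Cfsg.Agent.H854.Ore.CoOne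

open Cfsg.Agent.H777.Ore
open Cfsg.Agent.MonsterU.CoFrameF
open Cfsg.Agent.SporadicA.Co0Mono Cfsg.Agent.SporadicA.Co1Simple
open Cfsg.Agent.CoOneType
open Cfsg.Agent.CoOneType.CoOneE (E pr pr_surjective centralizer_dodecad_le card_E)
open Cfsg.Agent.CoOneType.SignFacts (wt)
open Cfsg.Agent.SporadicStructure.M24El Cfsg.Agent.SporadicA.GolayPerm Cfsg.Agent.Lib.F2Mat

theorem finite' : Finite Spor.Co1 := H518.Ore.CoOneN.finite_Co1

/-- only the elements of `E` centralize `E` in `F` -/
theorem cen {y : Spor.Co1} (hy : y ∈ F) (h : ∀ a ∈ E, y * a = a * y) : y ∈ E := by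
  let L : Subgroup F :=
    { carrier := {f | ∀ a ∈ E, (f : Spor.Co1) * a = a * f}
      one_mem' := fun a _ => by rw [Subgroup.coe_one, one_mul, mul_one]
      mul_mem' := fun {f g} hf hg a ha => by
        rw [Subgroup.coe_mul, mul_assoc, hg a ha, ← mul_assoc, hf a ha, mul_assoc]
      inv_mem' := fun {f} hf a ha => by
        rw [Subgroup.coe_inv]
        have h1 := hf a ha
        calc (f : Spor.Co1)⁻¹ * a = (f : Spor.Co1)⁻¹ * (a * f) * (f : Spor.Co1)⁻¹ := by group
          _ = (f : Spor.Co1)⁻¹ * (f * a) * (f : Spor.Co1)⁻¹ := by rw [h1]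
          _ = _ := by group }
  have hLn : L.Normal := ⟨fun f hf g a ha => by
    have h1 : (g : Spor.Co1)⁻¹ * a * g ∈ E := by
      have := conj_mem_E (F.inv_mem g.2) ha
      rwa [inv_inv] at this
    have h2 := hf _ h1
    push_cast
    calc (g : Spor.Co1) * f * (g : Spor.Co1)⁻¹ * a = g * (f * ((g : Spor.Co1)⁻¹ * a * g)) * (g : Spor.Co1)⁻¹ := by group
      _ = g * (((g : Spor.Co1)⁻¹ * a * g) * f) * (g : Spor.Co1)⁻¹ := by rw [h2]
      _ = _ := by group⟩
  have hL : (L.map toM24).Normal := hLn.map toM24 toM24_surjective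
  rcases Cfsg.Agent.S0365.result.eq_bot_or_eq_top_of_normal _ hL with h3 | h3
  · have h4 : toM24 ⟨y, hy⟩ ∈ L.map toM24 := ⟨⟨y, hy⟩, h, rfl⟩
    rw [h3, Subgroup.mem_bot, toM24_eq_one_iff] at h4
    exact h4
  · exfalso
    have h4 : toM24 ⟨x, x_mem_F⟩ ∈ L.map toM24 := by rw [h3]; trivial
    obtain ⟨f, hf, e⟩ := h4
    have h5 : toM24 (f⁻¹ * ⟨x, x_mem_F⟩) = 1 := by rw [map_mul, map_inv, e, inv_mul_cancel]
    rw [toM24_eq_one_iff] at h5
    obtain ⟨k, hk, hk1⟩ := exists_sign_ne
    apply hk1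
    apply eq_one_of_comm hk
    have h6 := comm_of_mem_E h5 hk
    have h7 := hf k hk
    push_cast at h6
    calc x * k = f * ((f : Spor.Co1)⁻¹ * x * k) := by group
      _ = f * (k * ((f : Spor.Co1)⁻¹ * x)) := by rw [h6]
      _ = (f * k) * ((f : Spor.Co1)⁻¹ * x) := by group
      _ = (k * f) * ((f : Spor.Co1)⁻¹ * x) := by rw [h7]
      _ = _ := by group

/-- **the subgroup `2^11 : M24` of `Co1`** -/
theorem ext : H854.Ore.MExt E F toM24 where
  card := by rw [card_E]; norm_num
  sq := fun _ hx => sq_of_mem_E hx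
  norm := fun f hf => by
    rw [Subgroup.mem_normalizer_iff]
    intro a
    constructor
    · intro ha
      exact conj_mem_E hf ha
    · intro ha
      have h1 := conj_mem_E (F.inv_mem hf) ha
      have h2 : f⁻¹ * (f * a * f⁻¹) * f⁻¹⁻¹ = a := by group
      rwa [h2] at h1
  surj := toM24_surjective
  ker := toM24_eq_one_iff
  cen := fun _ hy h => cen hy h
  odd := by rw [index_F]; norm_num

/-- **every 2-element of `Co1` is a product of two elements of order (dividing) 23** -/
theorem two_prod {g : Spor.Co1} {n : ℕ} (hg : g ^ 2 ^ n = 1) : ∃ a b : Spor.Co1, a ^ 23 = 1 ∧ b ^ 23 = 1 ∧ g = a * b := by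
  have := finite'
  exact ext.two_prod hg

/-- the input `two` of `InputsP (Pr 6)` -/
theorem two_pr (g : Spor.Co1) (hg : ∃ i : ℕ, g ^ 2 ^ i = 1) : H78.Pw.Pr 6 g := by
  have := finite'
  obtain ⟨i, hi⟩ := hg
  exact ext.two_pr (by norm_num) hi

/-- the elements of `F` and their conjugates -/
theorem pr_F {g : Spor.Co1} (hg : g ∈ F) : H78.Pw.Pr 6 g := by
  have := finite'
  exact ext.all_pr (by norm_num) hg

/-- every element of `F` is a product of two elements of order 23 and dividing `5 * 7 * 11 * 23` -/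
theorem prod_F {g : Spor.Co1} (hg : g ∈ F) : ∃ a b : Spor.Co1, a ^ 23 = 1 ∧ b ^ 8855 = 1 ∧ g = a * b := by
  have := finite'
  exact ext.all_prod hg

/-- the input `isD` of `InputsP (Pr 6)` -/
theorem pr_dodecad {d : golayCode} (hd : wt d = 12) {g u : Spor.Co1} (hu : IsConj u (pr (signCo0 d)))
    (hg : g * u = u * g) : H78.Pw.Pr 6 g := by
  obtain ⟨h, hh⟩ := isConj_iff.1 hu
  refine H78.Pw.Pr.of_conj (x := h) (pr_F (centralizer_dodecad_le d hd ?_))
  rw [mem_centralizer_singleton_iff, ← hh]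
  calc h * g * h⁻¹ * (h * u * h⁻¹) = h * (g * u) * h⁻¹ := by group
    _ = h * (u * g) * h⁻¹ := by rw [hg]
    _ = _ := by group

/-! ### four elements of square one -/

/-- an element of order 11 of `M24` -/
def px : ℕ := 192544052869470870902319059016517793

/-- an involution inverting it -/
def pt : ℕ := 690021148873038791074896445647135950

def chkX : Bool := ok px && (ok pt && (Nat.beq (ppw px 11) idP && (Nat.beq (pcomp pt pt) idP &&
  Nat.beq (pcomp (pcomp (pcomp pt px) pt) px) idP)))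

theorem chkX_true : chkX = true := by decide +kernel

theorem movX : ∃ i < 24, papp px i ≠ i := by decide +kernel

theorem sr_eleven (y : Spor.Co1) (hy : y ^ 11 = 1) : I2 y := by
  have := finite'
  have : Fact (Nat.Prime 11) := ⟨by norm_num⟩
  have h := chkX_true
  unfold chkX at h
  rw [Bool.and_eq_true, Bool.and_eq_true, Bool.and_eq_true, Bool.and_eq_true] at h
  obtain ⟨h1, h2, h3, h4, h5⟩ := h
  have e3 := congrArg el (Nat.eq_of_beq_eq_true h3)
  have e4 := congrArg el (Nat.eq_of_beq_eq_true h4)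
  have e5 := congrArg el (Nat.eq_of_beq_eq_true h5)
  rw [(el_ppw h1 11).2, el_idP] at e3
  rw [el_pcomp h2 h2, el_idP] at e4
  rw [el_pcomp (ok_pcomp (ok_pcomp h2 h1) h2) h1, el_pcomp (ok_pcomp h2 h1) h2, el_pcomp h2 h1, el_idP] at e5
  have hx1 : el px ≠ 1 := el_ne h1 movX
  refine I2.of_sylow (p := 11) (x := pr (permCo0 (el px))) (t := pr (permCo0 (el pt))) (by rw [card_Co1]; norm_num)
    (orderOf_eq_prime (by rw [← map_pow, ← map_pow, e3, map_one, map_one]) ?_) ?_ ?_ hy
  · intro h
    apply hx1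
    have h6 : toM24 ⟨pr (signCo0 0 * permCo0 (el px)), sp_mem_F 0 _⟩ = el px := toM24_eq rfl
    rw [← h6, toM24_eq_one_iff]
    show pr (signCo0 0 * permCo0 (el px)) ∈ E
    rw [signCo0_zero, one_mul, h]
    exact E.one_mem
  · rw [← map_mul, ← map_mul, e4, map_one, map_one]
  · rw [eq_inv_iff_mul_eq_one, ← map_mul, ← map_mul, ← map_mul, ← map_mul, ← map_mul, ← map_mul, e5, map_one, map_one]

/-- **every 2-element of `Co1` is a product of four elements of square one** -/
theorem two_four {g : Spor.Co1} {n : ℕ} (hg : g ^ 2 ^ n = 1) : I4 g := by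
  have := finite'
  exact ext.two_four sr_eleven hg

end Cfsg.Agent.H854.Ore.CoOne
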