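import Cfsg.Agent.H854.Ore.ExtProd
import Cfsg.Agent.H334.Ore.M24

/-!
# Groups with a subgroup `N = 2^11 . M24` : every element of `N` is a product of two elements of order prime to 6
(S2465, S2453) (helper854)

* `MExt.all_prod` : every `g` in `N` is `a * b` with `a ^ 23 = 1`, `b ^ 8855 = 1` (`8855 = 5 * 7 * 11 * 23`);
* `MExt.all_pr` : so every element of `N` is `Pr 6`.
-/

set_option autoImplicit false
set_option linter.unusedSectionVars false
set_option Elab.async false

open Cfsg Subgroup

namespace Cfsg.Agent.H854.Ore

open Cfsg.Agent.SporadicStructure.M24El Cfsg.Agent.SporadicA.GolayPerm Cfsg.Agent.Lib.F2Mat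
open Cfsg.Agent.H334.Ore.Mat

namespace ExtAll

/-- factorisations `a * b` of the class representatives, `a` of order 23, and the order of `b` -/
def W25 : List (ℕ × ℕ × ℕ) := [(180453217544282954013174019616625836, 418124869175549472381674214899008917, 7),
  (607093902588685542489668855147072651, 543388584808616042244612398127945960, 23),
  (553737298647090205375188827888624707, 565258342254357370742329052177106032, 11),
  (956709441910203461498593497208492130, 831393811050110993784197310996241955, 23),
  (526475193483151018049148542612743732, 291704994854626983266216973735310959, 23),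
  (434328204007948598498461012624749205, 153480124968472438741454592454328492, 23),
  (891128235592162180295978837862754501, 125006052860111435297168345452447918, 7),
  (609165238716718482069906714164368535, 21691142623591792225322706257725649, 7),
  (956709441910203461498593497208492130, 186030999333062919523598659140966822, 23),
  (980798401806566274455654461655243444, 540146255821190440663930736670531089, 23),
  (456973487716204245253907196648033415, 840479710392732499561255207495350454, 23),
  (20388192284121838010763701243761191, 930120978781208186142075089759909111, 23),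
  (310701796136528368708829362175727831, 610757315418406378492626355046560421, 23),
  (956302485175575353788796878166559809, 17080661152066128788646055461887716, 7),
  (544360194986021349716843622974001606, 648049016655299447778534222218043979, 7),
  (279666995301084573799938230752397989, 475935794425260723489733281584350794, 7),
  (482419119488086908251866214261851408, 106009070599407123758214810710417140, 7),
  (630116839875368399688685724322994696, 132872800435945851802710847527605856, 23),
  (526475193483151018049148542612743732, 527805582988377223126522912282313742, 7),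
  (732898560192635656792941653951850735, 56141877627208091182488781307631919, 23),
  (980798401806566274455654461655243444, 811512332205993728887707407898325428, 7),
  (609165238716718482069906714164368535, 195300085443973216167519423161666925, 5),
  (956302485175575353788796878166559809, 758875682323604108010890761258474112, 23),
  (460920701470342116762804706876760469, 635534174079488965547049921393951092, 7),
  (688413706773751484851041384321554899, 551862880298108614765057284711651795, 23)]

/-- the check -/
def chkE (r : Rec) (w : ℕ × ℕ × ℕ) : Bool :=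
  Nat.beq (pcomp w.1 w.2.1) r.c && (ok w.1 && (ok w.2.1 && (Nat.beq (ppw w.1 23) idP && (Nat.beq (ppw w.2.1 w.2.2) idP &&
    (Nat.beq (8855 % w.2.2) 0 && !(Nat.beq (papp w.1 0) 0 && Nat.beq (papp w.1 1) 1))))))

/-- the check of the list -/
def chkL : List Rec → List (ℕ × ℕ × ℕ) → Bool
  | [], [] => true
  | r :: D, w :: W => chkE r w && chkL D W
  | _, _ => false

theorem exists_chkE : ∀ {D : List Rec} {W : List (ℕ × ℕ × ℕ)}, chkL D W = true → ∀ r ∈ D, ∃ w, chkE r w = true := by
  intro D
  induction D with
  | nil => intro W _ r hr; exact absurd hr List.not_mem_nil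
  | cons r D ih =>
    intro W h s hs
    cases W with
    | nil => exact Bool.noConfusion h
    | cons w W =>
      have h1 : chkE r w = true ∧ chkL D W = true := by
        have h2 : (chkE r w && chkL D W) = true := h
        rwa [Bool.and_eq_true] at h2
      rcases List.mem_cons.1 hs with rfl | hs
      · exact ⟨w, h1.1⟩
      · exact ih h1.2 s hs

theorem hW : chkL Cfsg.Agent.H334.Ore.M24Data.D W25 = true := by decide +kernel

/-- **every element of `M24` is `a * b`, `a` of order 23, `b` of order dividing `5 * 7 * 11 * 23`** -/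
theorem all_M24_prod (u : M24) : ∃ a b : M24, a ^ 23 = 1 ∧ b ^ 8855 = 1 ∧ u = a * b ∧ a ≠ 1 := by
  rcases Cfsg.Agent.H334.Ore.M24R.cov u with rfl | ⟨r, hr, x, hx, hg⟩
  · obtain ⟨a, b, ha, hb, h, h1⟩ := two_M24_prod (u := (1 : M24)) (n := 0) (by simp)
    refine ⟨a, b, ha, ?_, h, h1⟩
    rw [show 8855 = 23 * 385 by norm_num, pow_mul, hb, one_pow]
  · obtain ⟨w, hw⟩ := exists_chkE hW r hr
    unfold chkE at hw
    rw [Bool.and_eq_true, Bool.and_eq_true, Bool.and_eq_true, Bool.and_eq_true, Bool.and_eq_true, Bool.and_eq_true] at hw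
    obtain ⟨h1, h2, h3, h4, h5, h6, h7⟩ := hw
    obtain ⟨c, hc⟩ := isConj_iff.1 hg
    have hx' : x = el r.c := hx
    have e1 := congrArg el (Nat.eq_of_beq_eq_true h1)
    have e2 := congrArg el (Nat.eq_of_beq_eq_true h4)
    have e3 := congrArg el (Nat.eq_of_beq_eq_true h5)
    rw [(el_ppw h2 23).2, el_idP] at e2
    rw [(el_ppw h3 w.2.2).2, el_idP] at e3
    rw [el_pcomp h2 h3, ← hx'] at e1
    have e4 : (el w.2.1) ^ 8855 = 1 := by
      obtain ⟨k, hk⟩ := Nat.dvd_of_mod_eq_zero (Nat.eq_of_beq_eq_true h6)
      rw [hk, pow_mul, e3, one_pow]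
    have hm : ∃ i < 24, papp w.1 i ≠ i := by
      by_contra hcon
      push Not at hcon
      rw [hcon 0 (by norm_num), hcon 1 (by norm_num)] at h7
      exact absurd h7 (by decide)
    refine ⟨c * el w.1 * c⁻¹, c * el w.2.1 * c⁻¹, by rw [conj_pow, e2]; group, by rw [conj_pow, e4]; group, ?_, ?_⟩
    · rw [← hc, ← e1]; group
    · intro h
      apply el_ne h2 hm
      have : el w.1 = c⁻¹ * (c * el w.1 * c⁻¹) * c := by group
      rw [this, h]; group

end ExtAll

namespace MExt

variable {G : Type*} [Group G] [Finite G] {A N : Subgroup G} {π : N →* M24}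

/-- a lift of an element of odd order -/
theorem liftOdd (H : MExt A N π) {a : M24} {m : ℕ} (hm : m % 2 = 1) (ha : a ^ m = 1) :
    ∃ a' : N, π a' = a ∧ (a' : G) ^ m = 1 := by
  obtain ⟨n, rfl⟩ := H.surj a
  obtain ⟨k, hk⟩ : 2 ∣ m + 1 := by omega
  refine ⟨n ^ (m + 1), ?_, ?_⟩
  · rw [map_pow, pow_succ, ha, one_mul]
  · have h3 : π (n ^ m) = 1 := by rw [map_pow, ha]
    have h4 := H.sq _ ((H.ker _).1 h3)
    have h5 : (n : G) ^ (m * 2) = 1 := by
      rw [pow_mul, pow_two]
      exact h4
    rw [Subgroup.coe_pow, ← pow_mul, hk, show 2 * k * m = m * 2 * k by ring, pow_mul, h5, one_pow]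

/-- **every element of `N` is a product of two elements of order 23 and dividing `5 * 7 * 11 * 23`** -/
theorem all_prod (H : MExt A N π) {g : G} (hg : g ∈ N) : ∃ a b : G, a ^ 23 = 1 ∧ b ^ 8855 = 1 ∧ g = a * b := by
  obtain ⟨a, b, ha, hb, hab, ha1⟩ := ExtAll.all_M24_prod (π ⟨g, hg⟩)
  obtain ⟨a', rfl, ha'⟩ := H.liftOdd (m := 23) (by norm_num) ha
  obtain ⟨b', rfl, hb'⟩ := H.liftOdd (m := 8855) (by norm_num) hb
  have hv : g * ((a' * b' : N) : G)⁻¹ ∈ A := by
    have h1 := (H.ker (⟨g, hg⟩ * (a' * b')⁻¹)).1 (by rw [map_mul, map_inv, hab, map_mul, mul_inv_cancel])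
    exact h1
  obtain ⟨x, hx, hxv⟩ := H.fill ha ha1 hv
  refine ⟨x * a' * x⁻¹, b', ?_, hb', ?_⟩
  · rw [conj_pow, ha']; group
  · calc g = g * ((a' * b' : N) : G)⁻¹ * ((a' * b' : N) : G) := by group
      _ = x * ((a' : G) * x⁻¹ * (a' : G)⁻¹) * ((a' * b' : N) : G) := by rw [hxv]
      _ = _ := by push_cast; group

/-- **every element of `N` is `Pr m`, `m` prime to `5, 7, 11, 23`** -/
theorem all_pr (H : MExt A N π) {m : ℕ} (hm : Nat.Coprime 8855 m) {g : G} (hg : g ∈ N) : Cfsg.Agent.H78.Pw.Pr m g := by
  obtain ⟨a, b, ha, hb, h⟩ := H.all_prod hg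
  refine ⟨a, b, h, Nat.Coprime.of_dvd_left (orderOf_dvd_of_pow_eq_one ha) ?_,
    Nat.Coprime.of_dvd_left (orderOf_dvd_of_pow_eq_one hb) hm⟩
  exact Nat.Coprime.of_dvd_left (by norm_num) hm

end MExt

end Cfsg.Agent.H854.Ore
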