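import Cfsg.Agent.H854.Ore.Ext
import Cfsg.Agent.H78.Pw.Base

/-!
# Groups with a subgroup `2^11 . M24` of odd index: the 2-elements are products of two elements of order 23
(S2465, S2453) (helper854)

* `MExt.two_prod` : every 2-element is `a * b` with `a ^ 23 = b ^ 23 = 1`; `MExt.two_pr` : so it is `Pr n` for `n` prime to 23.
-/

set_option autoImplicit false
set_option linter.unusedSectionVars false

open Cfsg Subgroup

namespace Cfsg.Agent.H854.Ore

open Cfsg.Agent.SporadicStructure.M24El Cfsg.Agent.SporadicA.GolayPerm Cfsg.Agent.Lib.F2Mat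
open Cfsg.Agent.H860.Two24 Cfsg.Agent.H860.Two24Data Cfsg.Agent.H777.Ore

/-- elements of order 23 -/
def exV1 : List ℕ := [983478296959358443554250846857397270, 435609769663561377304596957950597127, 526475193483151018049148542612743732, 928700450512634593027366072917433075, 435609769663561377304596957950597127, 683581010365472984858728795902035238, 482419119488086908251866214261851408]

/-- elements of order 23 -/
def exV2 : List ℕ := [956302485175575353788796878166559809, 776838379337473446636627489629275397, 956709441910203461498593497208492130, 442244753731677887827186527001555247, 237669737550661069534520897246152972, 902341838122745061286414040863911439, 42369145575781168702407732474071312]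

/-- the check -/
def chkEx (a b m : ℕ) : Bool :=
  ok a && ok b && Nat.beq (ppw a 23) idP && Nat.beq (ppw b 23) idP && Nat.beq (pcomp a b) m

theorem chkEx_all : ∀ j < 7, chkEx (exV1.getD j idP) (exV2.getD j idP) (rp.getD j idP) = true := by decide +kernel

theorem movedEx_all : ∀ j < 7, ∃ i < 24, papp (exV1.getD j idP) i ≠ i := by decide +kernel

/-- every 2-element of `M24` is a product of two elements of order 23 -/
theorem two_M24_prod {u : M24} {n : ℕ} (hu : u ^ 2 ^ n = 1) : ∃ a b : M24, a ^ 23 = 1 ∧ b ^ 23 = 1 ∧ u = a * b ∧ a ≠ 1 := by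
  obtain ⟨c, j, hc⟩ := two_conj hu
  obtain ⟨j, hj, hc⟩ : ∃ j' < 7, c * u * c⁻¹ = el (rp.getD j' idP) := by
    rcases Nat.lt_or_ge j 7 with h7 | h7
    · exact ⟨j, h7, hc⟩
    · refine ⟨0, by norm_num, ?_⟩
      rw [hc, List.getD_eq_default _ _ (by simpa [rp] using h7)]
      rfl
  have h := chkEx_all j hj
  have hm := movedEx_all j hj
  unfold chkEx at h
  simp only [Bool.and_eq_true] at h
  obtain ⟨⟨⟨⟨ha, hb⟩, h1⟩, h2⟩, h3⟩ := h
  generalize exV1.getD j idP = A at *
  generalize exV2.getD j idP = B at *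
  have e1 := congrArg el (Nat.eq_of_beq_eq_true h1)
  have e2 := congrArg el (Nat.eq_of_beq_eq_true h2)
  have e3 := congrArg el (Nat.eq_of_beq_eq_true h3)
  rw [(el_ppw ha 23).2, el_idP] at e1
  rw [(el_ppw hb 23).2, el_idP] at e2
  rw [el_pcomp ha hb, ← hc] at e3
  refine ⟨c⁻¹ * el A * c⁻¹⁻¹, c⁻¹ * el B * c⁻¹⁻¹, by rw [conj_pow, e1]; group, by rw [conj_pow, e2]; group, ?_, ?_⟩
  · have : u = c⁻¹ * (c * u * c⁻¹) * c := by group
    rw [this, ← e3]; group
  · intro h
    apply el_ne ha hm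
    have : el A = c * (c⁻¹ * el A * c⁻¹⁻¹) * c⁻¹ := by group
    rw [this, h]; group

namespace MExt

variable {G : Type*} [Group G] [Finite G] {A N : Subgroup G} {π : N →* M24}

/-- a lift of order 23 -/
theorem liftV (H : MExt A N π) {a : M24} (ha : a ^ 23 = 1) : ∃ a' : N, π a' = a ∧ (a' : G) ^ 23 = 1 := by
  obtain ⟨n, rfl⟩ := H.surj a
  refine ⟨n ^ 24, ?_, ?_⟩
  · rw [map_pow, pow_succ, ha, one_mul]
  · have h3 : π (n ^ 23) = 1 := by rw [map_pow, ha]
    have h4 := H.sq _ ((H.ker _).1 h3)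
    have h5 : (n : G) ^ 46 = 1 := by
      rw [show 46 = 23 + 23 by norm_num, pow_add]
      exact h4
    rw [Subgroup.coe_pow, ← pow_mul, show 24 * 23 = 46 * 12 by norm_num, pow_mul, h5, one_pow]

/-- **every 2-element is a product of two elements of order 23** -/
theorem two_prod (H : MExt A N π) {g : G} {n : ℕ} (hg : g ^ 2 ^ n = 1) : ∃ a b : G, a ^ 23 = 1 ∧ b ^ 23 = 1 ∧ g = a * b := by
  obtain ⟨h, c, rfl, hu⟩ := H.into hg
  obtain ⟨a, b, ha, hb, hab, ha1⟩ := two_M24_prod hu
  obtain ⟨a', rfl, ha'⟩ := H.liftV ha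
  obtain ⟨b', rfl, hb'⟩ := H.liftV hb
  have hv : (h : G) * ((a' * b' : N) : G)⁻¹ ∈ A := by
    rw [← Subgroup.coe_inv, ← Subgroup.coe_mul, ← H.ker, map_mul, map_inv, hab, map_mul, mul_inv_cancel]
  obtain ⟨x, hx, hxv⟩ := H.fill ha ha1 hv
  have key : (h : G) = (x * a' * x⁻¹) * b' := by
    calc (h : G) = (h : G) * ((a' * b' : N) : G)⁻¹ * ((a' * b' : N) : G) := by group
      _ = x * ((a' : G) * x⁻¹ * (a' : G)⁻¹) * ((a' * b' : N) : G) := by rw [hxv]
      _ = _ := by push_cast; group
  refine ⟨c * (x * a' * x⁻¹) * c⁻¹, c * b' * c⁻¹, ?_, ?_, by rw [key]; group⟩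
  · rw [conj_pow, conj_pow, ha']; group
  · rw [conj_pow, hb']; group

/-- **every 2-element is `Pr m`, `m` prime to 23** -/
theorem two_pr (H : MExt A N π) {m : ℕ} (hm : Nat.Coprime 23 m) {g : G} {n : ℕ} (hg : g ^ 2 ^ n = 1) :
    Cfsg.Agent.H78.Pw.Pr m g := by
  obtain ⟨a, b, ha, hb, h⟩ := H.two_prod hg
  exact ⟨a, b, h, Nat.Coprime.of_dvd_left (orderOf_dvd_of_pow_eq_one ha) hm,
    Nat.Coprime.of_dvd_left (orderOf_dvd_of_pow_eq_one hb) hm⟩

end MExt

end Cfsg.Agent.H854.Ore
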