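import Cfsg.Agent.H854.Ore.ExtProd
import Cfsg.Agent.H854.Ore.Fi24Two
import Cfsg.Agent.H48.OreFi.Frame
import Cfsg.Agent.H49.Four.ThreeInv
import Cfsg.Agent.H643.PwCnt

/-!
# `Fi24'`, row of S2465: products of two elements of order prime to 6 (and prime to `p`) (helper854)

* `pr_of_cent` : from the degree bounds of helper48's frame every `g` with `|C(g)| ≤ 78382080` is a product of two elements of
  order 29;
* `two_pr`, `three_pr` : the 2-elements (order 23), the 3-elements (orders 5, 7);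
* `pw_of` : the row, from the inputs `hDN`, `hDX`, `h9`, `h6` of helper48's frame.
-/

set_option autoImplicit false
set_option maxRecDepth 100000
set_option Elab.async false

open Cfsg Subgroup

namespace Cfsg.Agent.H854.Ore.Fi24Pw

open Cfsg.Agent Cfsg.Agent.Characters
open Cfsg.Agent.H78.Pw
open Cfsg.Agent.Fischer.Fi24RepDef Cfsg.Agent.Fischer.Fi24Rep
open Cfsg.Agent.Fischer.Fi24Spider (word_append word_cons word_nil)
open Cfsg.Agent.Fischer.Fi24Final (sgn sgn_gen)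
open Cfsg.Agent.LThreeFi24.FiveConj (eqB eq_of_eqB)
open Cfsg.Agent.R08.FiTwentyFour (mem_commutator_iff)
open Cfsg.Agent.H49.Four.ThreeInv (xr X_eq sgn_word)
open Cfsg.Spor (Fi24)
open Cfsg.Spor.Fi24 (Gen)

/-! ### The 2-elements -/

/-- every 2-element of `Fi24'` is a product of two elements of order (dividing) 23 -/
theorem two_prod {g : Spor.Fi24'} {n : ℕ} (hg : g ^ 2 ^ n = 1) : ∃ a b : Spor.Fi24', a ^ 23 = 1 ∧ b ^ 23 = 1 ∧ g = a * b := by
  have := Fi24.finite'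
  exact Fi24.ext.two_prod hg

/-! ### The 3-elements -/

/-- first factors, of order `oa i` -/
def wa : Fin 5 → List Gen := ![[.b, .k, .a, .l], [.c, .b, .k, .a], [.j, .g, .f, .e, .d, .c], [.l, .k, .a, .b, .c, .d],
  [.a, .k, .j, .c, .g, .j, .f, .b, .e, .g]]

/-- their orders -/
def oa : Fin 5 → ℕ := ![5, 5, 7, 7, 5]

/-- second factors, of order 5 -/
def wb : Fin 5 → List Gen := ![[.l, .a, .k, .b, .l, .k], [.a, .k, .b, .c, .l, .k, .b, .c],
  [.c, .d, .e, .f, .e, .d, .i, .c, .d, .h, .e, .f, .d, .e, .c, .d, .h, .i, .g, .f, .e, .d, .h, .j, .g, .f, .e, .d, .c,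
    .d, .e, .f, .g, .j, .h, .d, .e, .f, .g, .i, .h, .d, .c, .e, .d, .f, .e, .h, .d, .c],
  [.d, .c, .b, .a, .b, .c, .e, .f],
  [.g, .e, .b, .f, .j, .g, .c, .j, .b, .a, .l, .d, .e, .f, .c, .d, .e, .b, .c, .d, .h, .d, .e, .f, .g, .j, .c, .d, .e,
    .f, .g, .d, .h, .i, .c, .d, .h, .e, .f, .d, .e, .c, .d, .h, .i, .d, .h, .e, .f, .d, .e, .c, .d, .h, .e, .f, .d, .e,
    .c, .b]]

theorem p0 : and (eqB (wa 0 ++ wb 0) (xr 0)) (and (eqB (rep 5 (wa 0)) []) (eqB (rep 5 (wb 0)) [])) = true := by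
  decide +kernel
theorem p1 : and (eqB (wa 1 ++ wb 1) (xr 1)) (and (eqB (rep 5 (wa 1)) []) (eqB (rep 5 (wb 1)) [])) = true := by
  decide +kernel
theorem p2 : and (eqB (wa 2 ++ wb 2) (xr 2)) (and (eqB (rep 7 (wa 2)) []) (eqB (rep 5 (wb 2)) [])) = true := by
  decide +kernel
theorem p3 : and (eqB (wa 3 ++ wb 3) (xr 3)) (and (eqB (rep 7 (wa 3)) []) (eqB (rep 5 (wb 3)) [])) = true := by
  decide +kernel
theorem p4 : and (eqB (wa 4 ++ wb 4) (xr 4)) (and (eqB (rep 5 (wa 4)) []) (eqB (rep 5 (wb 4)) [])) = true := by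
  decide +kernel

theorem pp (i : Fin 5) : eqB (wa i ++ wb i) (xr i) = true ∧ eqB (rep (oa i) (wa i)) [] = true ∧ eqB (rep 5 (wb i)) [] = true := by
  have key : ∀ a b c : Bool, and a (and b c) = true → a = true ∧ b = true ∧ c = true := by decide
  fin_cases i
  · exact key _ _ _ p0
  · exact key _ _ _ p1
  · exact key _ _ _ p2
  · exact key _ _ _ p3
  · exact key _ _ _ p4

theorem even_w : ∀ i : Fin 5, (wa i).length % 2 = 0 ∧ (wb i).length % 2 = 0 := by decide

theorem word_rep (n : ℕ) (l : List Gen) : word (rep n l) = word l ^ n := by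
  induction n with
  | zero => rw [pow_zero]; exact word_nil
  | succ n ih =>
    show word (l ++ rep n l) = _
    rw [word_append, ih, pow_succ']

theorem sgn_even {w : List Gen} (h : w.length % 2 = 0) : sgn (word w) = 1 := by
  rw [sgn_word]
  obtain ⟨k, hk⟩ := Nat.dvd_of_mod_eq_zero h
  rw [hk, pow_mul, neg_one_sq, one_pow]

/-- the representatives are products of elements of order 5 and 7 -/
theorem prod_X (i : Fin 5) : ∃ a b : Fi24, sgn a = 1 ∧ sgn b = 1 ∧ a ^ 35 = 1 ∧ b ^ 35 = 1 ∧ H842.ThreeCl.X i = a * b := by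
  obtain ⟨h1, h2, h3⟩ := pp i
  have e1 := eq_of_eqB h1
  have e2 := eq_of_eqB h2
  have e3 := eq_of_eqB h3
  rw [word_append] at e1
  rw [word_rep, word_nil] at e2 e3
  refine ⟨word (wa i), word (wb i), sgn_even (even_w i).1, sgn_even (even_w i).2, ?_, ?_, ?_⟩
  · obtain ⟨k, hk⟩ : oa i ∣ 35 := by fin_cases i <;> decide
    rw [hk, pow_mul, e2, one_pow]
  · rw [show 35 = 5 * 7 by norm_num, pow_mul, e3, one_pow]
  · rw [X_eq, ← e1]

theorem three_prod24 {y : Fi24} (h3 : y ^ 3 = 1) : ∃ a b : Fi24, sgn a = 1 ∧ sgn b = 1 ∧ a ^ 35 = 1 ∧ b ^ 35 = 1 ∧ y = a * b := by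
  by_cases h1 : y = 1
  · exact ⟨1, 1, map_one _, map_one _, one_pow _, one_pow _, by rw [h1, mul_one]⟩
  obtain ⟨i, g, h⟩ := H842.ThreeCl.all H49.Four.TEight.fgroup24' H49.Four.TEight.isT8 h3 h1
  obtain ⟨a, b, ha, hb, ha', hb', e⟩ := prod_X i
  have e1 : y = g⁻¹ * (g * y * g⁻¹) * g := by group
  have key : ∀ z : Fi24, sgn z = 1 → z ^ 35 = 1 → sgn (g⁻¹ * z * g) = 1 ∧ (g⁻¹ * z * g) ^ 35 = 1 := by
    intro z hz hz'
    refine ⟨by rw [map_mul, map_mul, map_inv, hz, mul_one, inv_mul_cancel], ?_⟩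
    have h := conj_pow (i := 35) (a := g⁻¹) (b := z)
    rw [inv_inv] at h
    rw [h, hz']; group
  rcases h with h | h
  · rw [h, e] at e1
    exact ⟨_, _, (key a ha ha').1, (key b hb hb').1, (key a ha ha').2, (key b hb hb').2, by rw [e1]; group⟩
  · rw [h, e] at e1
    have ia := key b⁻¹ (by rw [map_inv, hb, inv_one]) (by rw [inv_pow, hb', inv_one])
    have ib := key a⁻¹ (by rw [map_inv, ha, inv_one]) (by rw [inv_pow, ha', inv_one])
    exact ⟨_, _, ia.1, ib.1, ia.2, ib.2, by rw [e1]; group⟩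

/-- every 3-element of `Fi24'` is a product of two elements of order dividing 35 -/
theorem three_prod {s : Spor.Fi24'} (hs : s ^ 3 = 1) : ∃ a b : Spor.Fi24', a ^ 35 = 1 ∧ b ^ 35 = 1 ∧ s = a * b := by
  obtain ⟨a, b, ha, hb, ha', hb', e⟩ := three_prod24 (y := (s : Fi24)) (by
    have := congrArg Subtype.val hs
    simpa using this)
  exact ⟨⟨a, mem_commutator_iff.2 ha⟩, ⟨b, mem_commutator_iff.2 hb⟩, Subtype.ext (by simpa using ha'),
    Subtype.ext (by simpa using hb'), Subtype.ext e⟩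

theorem pr_of {G : Type*} [Group G] {x y g : G} {q n : ℕ} (h : g = x * y) (hx : x ^ q = 1) (hy : y ^ q = 1)
    (hq : Nat.Coprime q n) : Pr n g :=
  ⟨x, y, h, Nat.Coprime.of_dvd_left (orderOf_dvd_of_pow_eq_one hx) hq,
    Nat.Coprime.of_dvd_left (orderOf_dvd_of_pow_eq_one hy) hq⟩

theorem noncomm : ¬ IsMulCommutative Spor.Fi24' := by
  obtain ⟨x, -, hx, hC, -⟩ := Cfsg.Agent.H30.IMFi24.exists_x
  intro h
  have h1 : centralizer ({x} : Set Spor.Fi24') = ⊤ := by
    rw [eq_top_iff]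
    intro y _
    rw [mem_centralizer_singleton_iff]
    exact h.is_comm.comm y x
  rw [h1, Subgroup.card_top, Cfsg.Agent.R08.FiTwentyFour.card_commutator] at hC
  omega

/-- **the sieve at 29** -/
theorem pr_of_cent
    (hDN : ∀ χ : IrrCharacter Spor.Fi24', (χ : Spor.Fi24' → ℂ) ≠ 1 →
      (charDegree (χ : Spor.Fi24' → ℂ) % 29 = 1 ∨ charDegree (χ : Spor.Fi24' → ℂ) % 29 = 28) →
        57477 ≤ charDegree (χ : Spor.Fi24' → ℂ))
    (hDX : ∀ χ : IrrCharacter Spor.Fi24', (χ : Spor.Fi24' → ℂ) ≠ 1 →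
      (charDegree (χ : Spor.Fi24' → ℂ) % 29 = 14 ∨ charDegree (χ : Spor.Fi24' → ℂ) % 29 = 15) →
        113000 ≤ charDegree (χ : Spor.Fi24' → ℂ))
    {g : Spor.Fi24'} (hc : Nat.card (centralizer ({g} : Set Spor.Fi24')) ≤ 78382080) {n : ℕ} (hn : Nat.Coprime 29 n) :
    Pr n g := by
  have := Fi24.finite'
  have : IsSimpleGroup Spor.Fi24' := Cfsg.Agent.S1698.result.1
  obtain ⟨x, -, hx, hC, -⟩ := Cfsg.Agent.H30.IMFi24.exists_x
  obtain ⟨a, b, h⟩ := H65.Ore.prd_all (p := 29) noncomm (by norm_num) Cfsg.Agent.R08.FiTwentyFour.card_commutator hx hC 14 2 141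
    (by decide +kernel) (DN := 57477) (DX := 113000) hDN hDX (by norm_num) (by norm_num) hx hc
  refine ⟨_, _, h, ?_, ?_⟩
  · rw [show orderOf (a * x * a⁻¹) = orderOf x from orderOf_injective (MulAut.conj a).toMonoidHom (MulAut.conj a).injective x, hx]
    exact hn
  · rw [show orderOf (b * x * b⁻¹) = orderOf x from orderOf_injective (MulAut.conj b).toMonoidHom (MulAut.conj b).injective x, hx]
    exact hn

/-- **the row, from the inputs of the frame** -/
theorem pwG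
    (hDN : ∀ χ : IrrCharacter Spor.Fi24', (χ : Spor.Fi24' → ℂ) ≠ 1 →
      (charDegree (χ : Spor.Fi24' → ℂ) % 29 = 1 ∨ charDegree (χ : Spor.Fi24' → ℂ) % 29 = 28) →
        57477 ≤ charDegree (χ : Spor.Fi24' → ℂ))
    (hDX : ∀ χ : IrrCharacter Spor.Fi24', (χ : Spor.Fi24' → ℂ) ≠ 1 →
      (charDegree (χ : Spor.Fi24' → ℂ) % 29 = 14 ∨ charDegree (χ : Spor.Fi24' → ℂ) % 29 = 15) →
        113000 ≤ charDegree (χ : Spor.Fi24' → ℂ))
    (h9 : ∀ g : Spor.Fi24', orderOf g = 9 → Nat.card (centralizer ({g} : Set Spor.Fi24')) ≤ 78382080)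
    (h6 : ∀ z s : Spor.Fi24', orderOf z = 2 → orderOf s = 3 → Commute z s →
      Nat.card (centralizer ({z} : Set Spor.Fi24') ⊓ centralizer ({s} : Set Spor.Fi24') : Subgroup Spor.Fi24') ≤
        78382080) : Pw Spor.Fi24' := by
  have := Fi24.finite'
  have : IsSimpleGroup Spor.Fi24' := Cfsg.Agent.S1698.result.1
  constructor
  · intro g
    refine H48.OreFi.cases (P := Pr 6) (fun g hg => pr_of_cent hDN hDX hg (by norm_num)) ?_ ?_ h9 h6 g
    · intro g n hg
      exact Fi24.ext.two_pr (by norm_num) hg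
    · intro g hg
      obtain ⟨a, b, ha, hb, h⟩ := three_prod hg
      exact pr_of h ha hb (by norm_num)
  · intro p hp h5
    by_cases h29 : p = 29
    · subst h29
      exact Cfsg.Agent.H643.PwCnt.all_of_not_sq_dvd noncomm hp (by
        rw [Cfsg.Agent.R08.FiTwentyFour.card_commutator]; norm_num)
    · intro g
      refine H48.OreFi.cases (P := Pr p) (fun g hg => pr_of_cent hDN hDX hg
        ((Nat.coprime_primes (by norm_num) hp).2 (Ne.symm h29))) ?_ ?_ h9 h6 g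
      · intro g n hg
        exact Pr.of_coprime (Nat.Coprime.of_dvd_left (orderOf_dvd_of_pow_eq_one hg)
          (Nat.Coprime.pow_left _ ((Nat.coprime_primes Nat.prime_two hp).2 (by omega))))
      · intro g hg
        exact Pr.of_coprime (Nat.Coprime.of_dvd_left (orderOf_dvd_of_pow_eq_one hg)
          ((Nat.coprime_primes Nat.prime_three hp).2 (by omega)))

/-- **row `Fi24'` of S2465, from the inputs of the frame** -/
theorem pw_of
    (hDN : ∀ χ : IrrCharacter Spor.Fi24', (χ : Spor.Fi24' → ℂ) ≠ 1 →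
      (charDegree (χ : Spor.Fi24' → ℂ) % 29 = 1 ∨ charDegree (χ : Spor.Fi24' → ℂ) % 29 = 28) →
        57477 ≤ charDegree (χ : Spor.Fi24' → ℂ))
    (hDX : ∀ χ : IrrCharacter Spor.Fi24', (χ : Spor.Fi24' → ℂ) ≠ 1 →
      (charDegree (χ : Spor.Fi24' → ℂ) % 29 = 14 ∨ charDegree (χ : Spor.Fi24' → ℂ) % 29 = 15) →
        113000 ≤ charDegree (χ : Spor.Fi24' → ℂ))
    (h9 : ∀ g : Spor.Fi24', orderOf g = 9 → Nat.card (centralizer ({g} : Set Spor.Fi24')) ≤ 78382080)
    (h6 : ∀ z s : Spor.Fi24', orderOf z = 2 → orderOf s = 3 → Commute z s →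
      Nat.card (centralizer ({z} : Set Spor.Fi24') ⊓ centralizer ({s} : Set Spor.Fi24') : Subgroup Spor.Fi24') ≤
        78382080) {S : Type*} [Group S] (h : Spor.IsoFi24' S) : Pw S := by
  obtain ⟨e⟩ := h
  exact (pwG hDN hDX h9 h6).congr e.symm

end Cfsg.Agent.H854.Ore.Fi24Pw
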