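import Cfsg.Agent.H854.Ore.Fi24Pw
import Cfsg.Agent.H48.OreFi.RowFin

/-!
# `Fi24'`, row of S2465: final form (helper854)

`pw_fin` : from `All 6 Fi23` and the bounds `Wd 1`, `Wd 2`, `Wd 4` of helper48's `H48/OreFi/Nine.lean` (orders 9 and 27).
-/

set_option autoImplicit false
set_option maxRecDepth 100000

open Cfsg Subgroup

namespace Cfsg.Agent.H854.Ore.Fi24Pw

open Cfsg.Agent Cfsg.Agent.Characters
open Cfsg.Agent.H78.Pw
open Cfsg.Agent.R08.FiTwentyFour (L facts mem_commutator_iff)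
open Cfsg.Agent.H48.OreFi.Nine (Wd)
open Cfsg.Spor (Fi24)

/-- elements commuting with a transposition -/
theorem pr_of_fix {n : ℕ} (h23 : All n Spor.Fi23) {g : Spor.Fi24'} {d : Fi24} (hd : d ∈ L) (hg : Commute (g : Fi24) d) :
    Pr n g := by
  obtain ⟨c, rfl⟩ := isConj_iff.1 (show IsConj (Cfsg.Agent.Fischer.Fi24Class.gen .l) d from hd)
  have h1 : (c⁻¹ * (g : Fi24) * c) * Cfsg.Agent.Fischer.Fi24Class.gen .l =
      Cfsg.Agent.Fischer.Fi24Class.gen .l * (c⁻¹ * (g : Fi24) * c) := by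
    calc (c⁻¹ * (g : Fi24) * c) * Cfsg.Agent.Fischer.Fi24Class.gen .l
        = c⁻¹ * ((g : Fi24) * (c * Cfsg.Agent.Fischer.Fi24Class.gen .l * c⁻¹)) * c := by group
      _ = c⁻¹ * ((c * Cfsg.Agent.Fischer.Fi24Class.gen .l * c⁻¹) * (g : Fi24)) * c := by rw [hg.eq]
      _ = Cfsg.Agent.Fischer.Fi24Class.gen .l * (c⁻¹ * (g : Fi24) * c) := by group
  have h2 : Cfsg.Agent.Fischer.Fi24Final.sgn (c⁻¹ * (g : Fi24) * c) = 1 := by
    rw [map_mul, map_mul, map_inv, mem_commutator_iff.1 g.2, mul_one, inv_mul_cancel]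
  obtain ⟨k, hk⟩ := (facts.mem_range_iff _).2 ⟨h1, h2⟩
  have hn : ∀ x : Spor.Fi23, c * facts.phi x * c⁻¹ ∈ commutator Fi24 := by
    intro x
    rw [mem_commutator_iff, map_mul, map_mul, map_inv, facts.sgn_phi, mul_one, mul_inv_cancel]
  let f : Spor.Fi23 →* Spor.Fi24' :=
    { toFun := fun x => ⟨c * facts.phi x * c⁻¹, hn x⟩
      map_one' := Subtype.ext (by
        show c * facts.phi 1 * c⁻¹ = 1
        rw [map_one]; group)
      map_mul' := fun x y => Subtype.ext (by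
        show c * facts.phi (x * y) * c⁻¹ = c * facts.phi x * c⁻¹ * (c * facts.phi y * c⁻¹)
        rw [map_mul]; group) }
  refine All.of_range f h23 (y := g) ⟨k, Subtype.ext ?_⟩
  show c * facts.phi k * c⁻¹ = (g : Fi24)
  rw [hk]; group

/-- the orders 9 and 27 without a fixed transposition -/
theorem nine_bound (h1 : Wd 1) (h2 : Wd 2) (h4 : Wd 4) (g : Spor.Fi24') (b : ℕ) (hb : 2 ≤ b)
    (hg : orderOf g = 3 ^ b) (hD : ∀ d ∈ L, ¬ Commute (g : Fi24) d) :
    Nat.card (centralizer ({g} : Set Spor.Fi24')) ≤ 78382080 := by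
  obtain ⟨s, hs⟩ : ∃ s, s = g ^ 3 ^ (b - 1) := ⟨_, rfl⟩
  have ho : orderOf s = 3 := by
    rw [hs, orderOf_pow, hg]
    obtain ⟨c, rfl⟩ : ∃ c, b = c + 1 := ⟨b - 1, by omega⟩
    rw [Nat.add_sub_cancel, Nat.gcd_eq_right (pow_dvd_pow 3 (Nat.le_succ c)), pow_succ,
      Nat.mul_div_cancel_left _ (by positivity)]
  have hs3' : s ^ 3 = 1 := by rw [← ho]; exact pow_orderOf_eq_one s
  have hs3 : (s : Fi24) ^ 3 = 1 := congrArg Subtype.val hs3'
  have hs1' : s ≠ 1 := by rintro h; rw [h, orderOf_one] at ho; omega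
  have hs1 : (s : Fi24) ≠ 1 := fun h => hs1' (Subtype.ext h)
  obtain ⟨i, y, hy⟩ := Cfsg.Agent.H842.ThreeCl.all Cfsg.Agent.H49.Four.TEight.fgroup24' Cfsg.Agent.H49.Four.TEight.isT8
    hs3 hs1
  have hi : ∀ i : Fin 5, i = 0 ∨ i = 1 ∨ i = 2 ∨ i = 3 ∨ i = 4 := by decide
  rcases hi i with rfl | rfl | rfl | rfl | rfl
  · exfalso
    have e1 : (s : Fi24) = ((g ^ 3 ^ (b - 2) : Spor.Fi24') : Fi24) ^ 3 := by
      rw [hs]
      show (g : Fi24) ^ 3 ^ (b - 1) = ((g : Fi24) ^ 3 ^ (b - 2)) ^ 3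
      rw [← pow_mul, ← pow_succ]
      congr 2
      omega
    rw [e1] at hy
    exact H48.OreFi.NineA.zero_false hy
  · exact h1 g s b hb hg hs hD ⟨y, hy⟩
  · exact h2 g s b hb hg hs hD ⟨y, hy⟩
  · refine (H48.OreFi.NineA.two_bound ?_ hD (s := s) ?_ hs3 hs1 ?_).trans (by norm_num)
    · rw [hg]; exact Odd.pow (by decide)
    · intro x hx
      rw [hs]; exact hx.pow_right _
    · rw [H48.OreFi.NineA.width_of hy]; rfl
  · exact h4 g s b hb hg hs hD ⟨y, hy⟩

/-- `|C(g)| ≤ 78382080` : product of two elements of order 29 -/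
theorem pr_cent {g : Spor.Fi24'} (hc : Nat.card (centralizer ({g} : Set Spor.Fi24')) ≤ 78382080) {n : ℕ}
    (hn : Nat.Coprime 29 n) : Pr n g :=
  pr_of_cent Cfsg.Agent.H26.Ore.Fi24Deg.hDN
    (fun χ h1 h2 => le_trans (by norm_num) (Cfsg.Agent.H26.Ore.Fi24Deg.hDX χ h1 h2)) hc hn

/-- **the row, from `All 6 Fi23` and the orders 9 and 27** -/
theorem pwFin (h23 : All 6 Spor.Fi23) (h1 : Wd 1) (h2 : Wd 2) (h4 : Wd 4) : Pw Spor.Fi24' := by
  have := Fi24.finite'
  have : IsSimpleGroup Spor.Fi24' := Cfsg.Agent.S1698.result.1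
  constructor
  · intro g
    refine H48.OreFi.cases' (P := Pr 6) (fun g hg => pr_cent hg (by norm_num)) ?_ ?_ ?_
      (H48.OreFi.bound_zs H48.OreFi.bdA) g
    · intro g n hg
      exact Fi24.ext.two_pr (by norm_num) hg
    · intro g hg
      obtain ⟨a, b, ha, hb, h⟩ := three_prod hg
      exact pr_of h ha hb (by norm_num)
    · intro g b hb hg
      by_cases hD : ∃ d ∈ L, Commute (g : Fi24) d
      · obtain ⟨d, hd, hc⟩ := hD
        exact pr_of_fix h23 hd hc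
      · push Not at hD
        exact pr_cent (nine_bound h1 h2 h4 g b hb hg hD) (by norm_num)
  · intro p hp h5
    by_cases h29 : p = 29
    · subst h29
      exact Cfsg.Agent.H643.PwCnt.all_of_not_sq_dvd noncomm hp (by
        rw [Cfsg.Agent.R08.FiTwentyFour.card_commutator]; norm_num)
    · have h3 : ∀ k : ℕ, Nat.Coprime (3 ^ k) p := fun k =>
        Nat.Coprime.pow_left _ ((Nat.coprime_primes Nat.prime_three hp).2 (by omega))
      intro g
      refine H48.OreFi.cases' (P := Pr p) (fun g hg => pr_cent hg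
        ((Nat.coprime_primes (by norm_num) hp).2 (Ne.symm h29))) ?_ ?_ ?_ (H48.OreFi.bound_zs H48.OreFi.bdA) g
      · intro g n hg
        exact Pr.of_coprime (Nat.Coprime.of_dvd_left (orderOf_dvd_of_pow_eq_one hg)
          (Nat.Coprime.pow_left _ ((Nat.coprime_primes Nat.prime_two hp).2 (by omega))))
      · intro g hg
        exact Pr.of_coprime (Nat.Coprime.of_dvd_left (orderOf_dvd_of_pow_eq_one hg) (by simpa using h3 1))
      · intro g b _ hg
        exact Pr.of_coprime (by rw [hg]; exact h3 b)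

/-- **row `Fi24'` of S2465, final form** -/
theorem pw_fin (h23 : All 6 Spor.Fi23) (h1 : Wd 1) (h2 : Wd 2) (h4 : Wd 4) {S : Type*} [Group S]
    (h : Spor.IsoFi24' S) : Pw S := by
  obtain ⟨e⟩ := h
  exact (pwFin h23 h1 h2 h4).congr e.symm

end Cfsg.Agent.H854.Ore.Fi24Pw
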