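import Cfsg.Agent.H854.Ore.Fi24PwFin
import Cfsg.Agent.H293.PwF.Pw
import Cfsg.Agent.H48.OreFi.WOne
import Cfsg.Agent.H597.OreFi.NineB

/-!
# S2465, row `Fi24'` modulo `Wd 4` (helper854)
-/

set_option autoImplicit false

open Cfsg

namespace Cfsg.Agent.H854.Ore.Fi24Pw

open Cfsg.Agent.H78.Pw Cfsg.Agent.H48.OreFi.Nine

theorem pw_of_four (h4 : Wd 4) {S : Type*} [Group S] (h : Spor.IsoFi24' S) : Pw S :=
  pw_fin H293.PwF.six_model H48.OreFi.WOne.wd_one H597.OreFi.NineB.wd_two h4 h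

end Cfsg.Agent.H854.Ore.Fi24Pw
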